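import Cfsg.Agent.Fus.OrderFive.Group
import Cfsg.Agent.PGroup.Frattini
import Cfsg.Agent.PGroup.Normal
import Mathlib.GroupTheory.Abelianization.Defs

/-!
Weights of automorphisms of groups of order `p ^ 5` on the commutator pairings; for `p = 3` a class
outside the derived subgroup is fixed by every automorphism.
-/

set_option autoImplicit false

open scoped commutatorElement

namespace CfsgLib.Fus.OrderFive

open CfsgLib.PGroup.MaxClass CfsgLib.Fus.EssentialElemCube

variable {G : Type*} [Group G] {p : ℕ}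

/-- An automorphism scaling `u` and `v` scales their commutator by the product. -/
theorem scal_comm {α : MulAut G} {N1 N2 N' : Subgroup G} [N'.Normal] {u v : G} {a b : ℕ}
    (hu : (u ^ a)⁻¹ * α u ∈ N1) (hv : (v ^ b)⁻¹ * α v ∈ N2) (hc : ∀ y, ⁅⁅u, v⁆, y⁆ ∈ N')
    (h1 : ∀ x ∈ N1, ⁅x, v⁆ ∈ N') (h2 : ∀ y ∈ N2, ⁅u, y⁆ ∈ N')
    (h12 : ∀ x ∈ N1, ∀ y ∈ N2, ⁅x, y⁆ ∈ N') :
    (⁅u, v⁆ ^ (a * b))⁻¹ * α ⁅u, v⁆ ∈ N' := by
  set π := QuotientGroup.mk' N'
  have hone : ∀ {g : G}, g ∈ N' → π g = 1 := fun hg => (QuotientGroup.eq_one_iff _).2 hg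
  have hcm : ∀ {g g' : G}, ⁅g, g'⁆ ∈ N' → Commute (π g) (π g') := fun hg => by
    rw [← commutatorElement_eq_one_iff_commute, ← map_commutatorElement]
    exact hone hg
  obtain ⟨n1, eu, hu⟩ : ∃ n1, α u = u ^ a * n1 ∧ n1 ∈ N1 := ⟨_, (mul_inv_cancel_left _ _).symm, hu⟩
  obtain ⟨n2, ev, hv⟩ : ∃ n2, α v = v ^ b * n2 ∧ n2 ∈ N2 := ⟨_, (mul_inv_cancel_left _ _).symm, hv⟩
  have c1 : Commute (π n1) (π v ^ b * π n2) :=
    ((hcm (h1 _ hu)).pow_right b).mul_right (hcm (h12 _ hu _ hv))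
  have c2 : Commute (π u ^ a) (π n2) := (hcm (h2 _ hv)).pow_left a
  have hz : ∀ q, Commute ⁅π u, π v⁆ q := fun q => by
    obtain ⟨y, rfl⟩ := QuotientGroup.mk'_surjective N' q
    rw [← map_commutatorElement]
    exact hcm (hc y)
  have hpow : ⁅π u ^ a, π v ^ b⁆ = ⁅π u, π v⁆ ^ (a * b) := by
    have hr : ⁅π u, π v ^ b⁆ = ⁅π u, π v⁆ ^ b := PGroup.commutatorElement_pow_right (hz _) b
    rw [PGroup.commutatorElement_pow_left (by rw [hr]; exact (hz _).pow_left b) a, hr, ← pow_mul,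
      mul_comm]
  rw [← QuotientGroup.eq]
  show π (⁅u, v⁆ ^ (a * b)) = π (α ⁅u, v⁆)
  rw [map_commutatorElement α, eu, ev, map_commutatorElement π (u ^ a * n1), map_mul, map_mul, map_pow,
    map_pow, map_pow, map_commutatorElement, ← hpow]
  generalize π u ^ a = A at *
  generalize π v ^ b = B at *
  generalize π n1 = c at *
  generalize π n2 = d at *
  rw [show ⁅A * c, B * d⁆ = A * ⁅c, B * d⁆ * A⁻¹ * (⁅A, B⁆ * (B * ⁅A, d⁆ * B⁻¹)) by
    simp only [commutatorElement_def]; group, commutatorElement_eq_one_iff_commute.2 c1,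
    commutatorElement_eq_one_iff_commute.2 c2]
  group

/-- Products of an element with a normal subgroup. -/
theorem exists_scal [Finite G] {N : Subgroup G} [N.Normal] {x y : G}
    (hy : y ∈ Subgroup.zpowers x ⊔ N) : ∃ a : ℕ, (x ^ a)⁻¹ * y ∈ N := by
  rw [Subgroup.mem_sup_of_normal_right] at hy
  obtain ⟨u, hu, v, hv, rfl⟩ := hy
  obtain ⟨a, rfl⟩ := mem_powers_iff_mem_zpowers.2 hu
  exact ⟨a, by rwa [inv_mul_cancel_left]⟩

/-- A characteristic subgroup is invariant. -/
theorem map_mem_char {H : Subgroup G} (hH : H.Characteristic) (α : MulAut G) {x : G} (hx : x ∈ H) :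
    α x ∈ H := by
  rw [← Subgroup.characteristic_iff_map_eq.1 hH α]
  exact ⟨x, hx, rfl⟩

theorem weights_three : ∀ A B : ZMod 3, A ≠ 0 → B ≠ 0 → A ^ 3 * B = A * B * B → B = 1 := by decide

theorem weights_three' : ∀ A B L : ZMod 3, A ≠ 0 → B ≠ 0 → B * A * A = L * B → L = 1 := by decide

variable [Finite G] [Fact p.Prime]

theorem eq_top_of_notMem (hG : IsPGroup p G) {C : Subgroup G} (hC : C.index = p) {x : G} (hx : x ∉ C) :
    Subgroup.zpowers x ⊔ C = ⊤ :=
  (PGroup.isCoatom_of_index_eq hC).2 _ (lt_of_le_of_ne le_sup_right fun he =>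
    hx (he.ge (Subgroup.mem_sup_left (Subgroup.mem_zpowers x))))

theorem not_dvd_of_scal {N : Subgroup G} {x y : G} (hp : x ^ p ∈ N) {a : ℕ}
    (hy : (x ^ a)⁻¹ * y ∈ N) (hyN : y ∉ N) : ¬ p ∣ a := by
  rintro ⟨m, rfl⟩
  refine hyN ?_
  have := N.mul_mem (N.pow_mem hp m) hy
  rwa [← pow_mul, mul_inv_cancel_left] at this

theorem natCast_eq_of_pow_eq {z : G} (hz : z ≠ 1) (hzp : z ^ p = 1) {m n : ℕ} (h : z ^ m = z ^ n) :
    (m : ZMod p) = n := by
  rw [ZMod.natCast_eq_natCast_iff, ← orderOf_eq_prime hzp hz]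
  exact pow_eq_pow_iff_modEq.1 h

/-- A normal subgroup of order `p` modulo `N` is central modulo `N`. -/
theorem comm_mem_of_relIndex (hG : IsPGroup p G) {N D : Subgroup G} [N.Normal] [hDn : D.Normal]
    (hND : N ≤ D) (hrel : N.relIndex D = p) : ∀ v ∈ D, ∀ y : G, ⁅v, y⁆ ∈ N := by
  haveI hn : (D.map (QuotientGroup.mk' N)).Normal := hDn.map _ (QuotientGroup.mk'_surjective N)
  have hc : Nat.card (D.map (QuotientGroup.mk' N)) = p := by
    rw [← Subgroup.relIndex_ker, QuotientGroup.ker_mk', hrel]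
  have hle := PGroup.le_center_of_card_eq (hG.to_quotient N) _ hc
  intro v hv y
  rw [← QuotientGroup.eq_one_iff]
  show QuotientGroup.mk' N ⁅v, y⁆ = 1
  rw [map_commutatorElement, commutatorElement_eq_one_iff_mul_comm]
  exact (Subgroup.mem_center_iff.1 (hle ⟨v, hv, rfl⟩) (QuotientGroup.mk' N y)).symm

variable (hyp : Hyp p G)
include hyp

/-- The weights in maximal class: `b = a ^ 2` and the centre scales by `a ^ 3 b`. -/
theorem weights (h : IsMaxCl p G 5) {α : MulAut G} {x : G} (hx : x ∉ twoStep G 2) {a : ℕ}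
    (ha : (x ^ a)⁻¹ * α x ∈ twoStep G 2) :
    ∃ (s : G) (b : ℕ), s ∈ twoStep G 2 ∧ s ∉ gam G 2 ∧ (s ^ b)⁻¹ * α s ∈ gam G 2 ∧ ¬ p ∣ b ∧
      ((a ^ 3 * b : ℕ) : ZMod p) = ((a * b * b : ℕ) : ZMod p) ∧
      ∀ z ∈ gam G 4, α z = z ^ (a ^ 3 * b) := by
  have hp : p.Prime := Fact.out
  have hP := h.isPGroup
  have hst : twoStep G 3 = twoStep G 2 := by
    by_contra hne
    exact absurd (h.exceptional_bounds h.stepsAgree le_rfl hne).1 (by decide)
  obtain ⟨s, hs, hsm, hs1, hsn⟩ := h.exists_chain (h.good_of_notMem hx (by rw [hst]; exact hx))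
  set C := twoStep G 2
  have hidx := h.index_twoStep (le_refl 2) (by norm_num)
  haveI hCn : C.Normal := PGroup.normal_of_coatom hP (PGroup.isCoatom_of_index_eq hidx)
  have hgam : ∀ i, ∀ {y : G}, y ∈ gam G i → α y ∈ gam G i := fun i y hy =>
    (gam_map α.toMonoidHom α.surjective i).le ⟨y, hy, rfl⟩
  have hCmap : ∀ {y : G}, y ∈ C → α y ∈ C := by
    intro y hy
    refine mem_twoStep.2 fun w hw => ?_
    have h1 := hgam (2 + 2) (mem_twoStep.1 hy (α.symm w)
      ((gam_map α.symm.toMonoidHom α.symm.surjective 2).le ⟨w, hw, rfl⟩))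
    rwa [map_commutatorElement, MulEquiv.apply_symm_apply] at h1
  have hs2 : ⁅s 1, x⁆ = s 2 := (hs 1 le_rfl).symm
  have hs3 : ⁅s 2, x⁆ = s 3 := (hs 2 (by norm_num)).symm
  have hs4 : ⁅s 3, x⁆ = s 4 := (hs 3 (by norm_num)).symm
  have hC5 : ∀ {y w : G}, y ∈ C → w ∈ gam G 3 → ⁅y, w⁆ = 1 := fun hy hw =>
    h.mem_gam_one le_rfl (mem_twoStep.1 (hst.symm ▸ hy) _ hw)
  have hC5' : ∀ {y w : G}, y ∈ C → w ∈ gam G 3 → ⁅w, y⁆ = 1 := fun hy hw => by
    rw [← commutatorElement_inv, hC5 hy hw, inv_one]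
  have h22 : ∀ {y w : G}, y ∈ gam G 2 → w ∈ gam G 2 → ⁅y, w⁆ = 1 := by
    have hcen : gam G 2 ≤ Subgroup.centralizer (gam G 2 : Set G) := by
      intro y hy
      refine Subgroup.mem_centralizer_iff.2 fun w hw => ?_
      obtain ⟨e, he⟩ := h.exists_pow le_rfl (hsm 2 (by norm_num)) (hsn 2 (by norm_num) (by norm_num)) hw
      obtain ⟨e', he'⟩ := h.exists_pow le_rfl (hsm 2 (by norm_num)) (hsn 2 (by norm_num) (by norm_num)) hy
      have hk : ∀ {u v : G}, u ∈ gam G 3 → v ∈ gam G 2 → Commute u v := fun hu hv =>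
        commutatorElement_eq_one_iff_commute.1 (h.mem_gam_one le_rfl
          (comm_mem_gam (by norm_num : 1 ≤ 3) (by norm_num : 1 ≤ 2) hu hv))
      have c1 : Commute (s 2 ^ e) (s 2 ^ e') := (Commute.refl (s 2)).pow_pow e e'
      have hww : w = s 2 ^ e * ((s 2 ^ e)⁻¹ * w) := (mul_inv_cancel_left _ _).symm
      have hyy : y = s 2 ^ e' * ((s 2 ^ e')⁻¹ * y) := (mul_inv_cancel_left _ _).symm
      have hm2 : ∀ n : ℕ, s 2 ^ n ∈ gam G 2 := fun n => pow_mem (hsm 2 (by norm_num)) n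
      have c2 : Commute w y := by
        rw [hww, hyy]
        exact ((c1.mul_right (hk he' (hm2 e)).symm)).mul_left
          ((hk he (hm2 e')).mul_right (hk he (gam_anti (by norm_num) he')))
      exact c2.eq
    intro y w hy hw
    exact commutatorElement_eq_one_iff_commute.2 (Subgroup.mem_centralizer_iff.1 (hcen hy) w hw).symm
  have hsC : C = Subgroup.zpowers (s 1) ⊔ gam G 2 :=
    h.eq_of_index hidx hs1 (hsn 1 le_rfl (by norm_num))
  have hCC : ∀ {y : G}, y ∈ C → ⁅s 1, y⁆ ∈ gam G 4 := by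
    intro y hy
    obtain ⟨i, hi⟩ := exists_scal (hsC ▸ hy)
    have e : ⁅s 1, y⁆ = s 1 ^ i * ⁅s 1, (s 1 ^ i)⁻¹ * y⁆ * (s 1 ^ i)⁻¹ := by
      simp only [commutatorElement_def]; group
    rw [e]
    exact (gam_normal 4).conj_mem _ (mem_twoStep.1 hs1 _ hi) _
  obtain ⟨b, hb⟩ := exists_scal (hsC ▸ hCmap hs1)
  have hbp : ¬ p ∣ b := not_dvd_of_scal (h.pow_mem_gam_two _) hb fun hm => hsn 1 le_rfl (by norm_num) (by
    have := (gam_map α.symm.toMonoidHom α.symm.surjective 2).le ⟨_, hm, rfl⟩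
    simpa using this)
  have e2 : (s 2 ^ (b * a))⁻¹ * α (s 2) ∈ gam G 3 := by
    have := scal_comm (N' := gam G 3) hb ha
      (fun y => comm_mem_gam_succ (show 1 ≤ 2 by norm_num) (hs2 ▸ hsm 2 (by norm_num)) y)
      (fun u hu => comm_mem_gam_succ (show 1 ≤ 2 by norm_num) hu x)
      (fun y hy => gam_anti (by norm_num) (hCC hy))
      (fun u hu y _ => comm_mem_gam_succ (show 1 ≤ 2 by norm_num) hu y)
    rwa [hs2] at this
  have e3 : (s 3 ^ (b * a * a))⁻¹ * α (s 3) ∈ gam G 4 := by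
    have := scal_comm (N' := gam G 4) e2 ha
      (fun y => comm_mem_gam_succ (show 1 ≤ 3 by norm_num) (hs3 ▸ hsm 3 (by norm_num)) y)
      (fun u hu => comm_mem_gam_succ (show 1 ≤ 3 by norm_num) hu x)
      (fun y hy => by
        rw [← commutatorElement_inv]
        exact inv_mem (mem_twoStep.1 hy _ (hsm 2 (by norm_num))))
      (fun u hu y _ => comm_mem_gam_succ (show 1 ≤ 3 by norm_num) hu y)
    rwa [hs3] at this
  have h4c : ∀ {y : G}, y ∈ gam G 4 → ∀ w : G, ⁅y, w⁆ = 1 := fun hy w =>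
    commutatorElement_eq_one_iff_commute.2 (h.commute_gam_last hy w)
  have e4 : α (s 4) = s 4 ^ (b * a * a * a) := by
    have := scal_comm (N' := (⊥ : Subgroup G)) e3 ha
      (fun y => Subgroup.mem_bot.2 (h4c (hs4 ▸ hsm 4 (by norm_num)) y))
      (fun u hu => Subgroup.mem_bot.2 (h4c hu x))
      (fun y hy => Subgroup.mem_bot.2 (hC5' hy (hsm 3 (by norm_num))))
      (fun u hu y _ => Subgroup.mem_bot.2 (h4c hu y))
    rw [hs4, Subgroup.mem_bot, inv_mul_eq_one] at this
    exact this.symm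
  have hz4 : ∀ z ∈ gam G 4, α z = z ^ (a ^ 3 * b) := by
    intro z hz
    obtain ⟨e, he⟩ := h.exists_pow (by norm_num) (hsm 4 (by norm_num)) (hsn 4 (by norm_num) (by norm_num)) hz
    have hz' : z = s 4 ^ e := (inv_mul_eq_one.1 (h.mem_gam_one le_rfl he)).symm
    rw [hz', map_pow, e4, ← pow_mul, ← pow_mul]
    ring_nf
  refine ⟨s 1, b, hs1, hsn 1 le_rfl (by norm_num), hb, hbp, ?_, hz4⟩
  have hm4 : ⁅s 1, s 2⁆ ∈ gam G 4 := mem_twoStep.1 hs1 _ (hsm 2 (by norm_num))
  have hne : ⁅s 1, s 2⁆ ≠ 1 := by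
    intro h1
    obtain ⟨u, hu, v, hv, huv⟩ := hyp.not_abelian C (card_of_index hyp.card hidx)
    refine huv ?_
    have hle : gam G 2 ≤ Subgroup.centralizer {s 1} := by
      intro y hy
      obtain ⟨e, he⟩ := h.exists_pow le_rfl (hsm 2 (by norm_num)) (hsn 2 (by norm_num) (by norm_num)) hy
      have hc : Commute (s 1) (s 2 ^ e * ((s 2 ^ e)⁻¹ * y)) :=
        ((commutatorElement_eq_one_iff_commute.1 h1).pow_right e).mul_right
          (commutatorElement_eq_one_iff_commute.1 (hC5 hs1 he))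
      rw [mul_inv_cancel_left] at hc
      exact Subgroup.mem_centralizer_singleton_iff.2 hc.eq.symm
    obtain ⟨i, hi⟩ := exists_scal (hsC ▸ hu)
    obtain ⟨j, hj⟩ := exists_scal (hsC ▸ hv)
    have cs : ∀ {y : G}, y ∈ gam G 2 → Commute y (s 1) := fun hy =>
      Subgroup.mem_centralizer_singleton_iff.1 (hle hy)
    have c := (((Commute.refl (s 1)).pow_pow i j).mul_right ((cs hj).symm.pow_left i)).mul_left
      (((cs hi).pow_right j).mul_right (commutatorElement_eq_one_iff_commute.1 (h22 hi hj)))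
    rwa [mul_inv_cancel_left, mul_inv_cancel_left] at c
  have e5 : α ⁅s 1, s 2⁆ = ⁅s 1, s 2⁆ ^ (b * (b * a)) := by
    have := scal_comm (N' := (⊥ : Subgroup G)) hb e2
      (fun y => Subgroup.mem_bot.2 (h4c hm4 y))
      (fun u hu => Subgroup.mem_bot.2 (h22 hu (hsm 2 (by norm_num))))
      (fun y hy => Subgroup.mem_bot.2 (hC5 hs1 hy))
      (fun u hu y hy => Subgroup.mem_bot.2 (h22 hu (gam_anti (by norm_num) hy)))
    rw [Subgroup.mem_bot, inv_mul_eq_one] at this
    exact this.symm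
  have hzp : ⁅s 1, s 2⁆ ^ p = 1 := by
    have hc := h.card_gam 4 (by norm_num) (by norm_num)
    rw [show 5 - 4 = 1 from rfl, pow_one] at hc
    have := pow_card_eq_one' (G := gam G 4) (x := ⟨_, hm4⟩)
    rw [hc] at this
    exact congrArg Subtype.val this
  have heq := natCast_eq_of_pow_eq hne hzp ((hz4 _ hm4).symm.trans e5)
  rw [heq]
  congr 1
  ring

omit hyp in
/-- A fixed class outside the derived subgroup. -/
def HasFixedClass (G : Type*) [Group G] : Prop :=
  ∃ w : G, w ∉ commutator G ∧ ∀ α : MulAut G, w⁻¹ * α w ∈ commutator G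

/-- In maximal class with `p = 3`. -/
theorem fixed_maxClass (hp3 : p = 3) (h : IsMaxCl p G 5) : HasFixedClass G := by
  have hp : p.Prime := Fact.out
  obtain ⟨x, hx⟩ : ∃ x, x ∉ twoStep G 2 := by
    by_contra hall
    push Not at hall
    exact h.twoStep_ne_top (show 1 ≤ 2 by norm_num) (by norm_num) ((Subgroup.eq_top_iff' _).2 hall)
  have hidx := h.index_twoStep (le_refl 2) (by norm_num)
  haveI : (twoStep G 2).Normal :=
    PGroup.normal_of_coatom h.isPGroup (PGroup.isCoatom_of_index_eq hidx)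
  obtain ⟨s0, hs0, hs0'⟩ := h.exists_twoStep_notMem
  have hcomm : commutator G = gam G 2 := by
    rw [gam_succ le_rfl, gam_one, commutator_def]
  refine ⟨s0, hcomm ▸ hs0', fun α => ?_⟩
  obtain ⟨a, ha⟩ := exists_scal (N := twoStep G 2) (x := x) (y := α x)
    (by rw [eq_top_of_notMem h.isPGroup hidx hx]; exact Subgroup.mem_top _)
  obtain ⟨s, b, hs, hs', hb, hbp, heq, -⟩ := weights hyp h hx ha
  have hap : ¬ p ∣ a := by
    refine not_dvd_of_scal (by rw [← hidx]; exact Subgroup.pow_index_mem _ x) ha fun hm => hx ?_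
    refine mem_twoStep.2 fun w hw => ?_
    have h1 := (gam_map α.symm.toMonoidHom α.symm.surjective (2 + 2)).le
      ⟨_, mem_twoStep.1 hm (α w) ((gam_map α.toMonoidHom α.surjective 2).le ⟨w, hw, rfl⟩), rfl⟩
    simpa [map_commutatorElement] using h1
  have hb1 : (b : ZMod p) = 1 := by
    have ha0 : (a : ZMod p) ≠ 0 := fun h0 => hap ((ZMod.natCast_eq_zero_iff a p).1 h0)
    have hb0 : (b : ZMod p) ≠ 0 := fun h0 => hbp ((ZMod.natCast_eq_zero_iff b p).1 h0)
    push_cast at heq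
    subst hp3
    exact weights_three _ _ ha0 hb0 heq
  rw [hcomm]
  -- transfer to `s0`
  obtain ⟨e, he⟩ := exists_scal (N := gam G 2) (x := s) (y := s0)
    (h.eq_of_index hidx hs hs' ▸ hs0)
  have hsfix : s⁻¹ * α s ∈ gam G 2 := by
    have hmod : b % p = 1 := by
      have := (ZMod.natCast_eq_natCast_iff' b 1 p).1 (by rw [hb1, Nat.cast_one])
      rwa [Nat.mod_eq_of_lt hp.one_lt] at this
    have hsb : s⁻¹ * s ^ b ∈ gam G 2 := by
      rw [← Nat.mod_add_div b p, hmod, pow_add, pow_one, inv_mul_cancel_left, pow_mul]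
      exact pow_mem (h.pow_mem_gam_two s) _
    have := (gam G 2).mul_mem hsb hb
    rwa [mul_assoc, mul_inv_cancel_left] at this
  rw [← QuotientGroup.eq] at he hsfix ⊢
  have hα : ∀ u v : G, (u : G ⧸ gam G 2) = v → ((α u : G) : G ⧸ gam G 2) = (α v : G) := fun u v huv => by
    rw [QuotientGroup.eq] at huv ⊢
    rw [← map_inv, ← map_mul]
    exact (gam_map α.toMonoidHom α.surjective 2).le ⟨_, huv, rfl⟩
  rw [← hα _ _ he, map_pow, QuotientGroup.mk_pow, ← hsfix, ← QuotientGroup.mk_pow, he]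

/-- With derived subgroup of order `p ^ 2` and `p = 3`. -/
theorem fixed_derived_sq (hp3 : p = 3) (hZ : Nat.card (Subgroup.center G) = p)
    (hD2 : Nat.card (commutator G) = p ^ 2) : HasFixedClass G := by
  have hp : p.Prime := Fact.out
  have hP := hyp.isPGroup
  set Z := Subgroup.center G
  set D := commutator G with hD
  have hcomm : ∀ a b : G, ⁅a, b⁆ ∈ D := fun a b => by
    rw [hD, commutator_def]
    exact Subgroup.commutator_mem_commutator (Subgroup.mem_top a) (Subgroup.mem_top b)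
  have hone : ∀ {z : G}, z ∈ Z → ∀ y : G, ⁅z, y⁆ = 1 := fun hz y =>
    commutatorElement_eq_one_iff_mul_comm.2 (Subgroup.mem_center_iff.1 hz y).symm
  have hZD : Z ≤ D := by
    have hne : D ≠ ⊥ := fun hb => by
      rw [hb, Subgroup.card_bot] at hD2
      exact (Nat.one_lt_pow two_ne_zero hp.one_lt).ne hD2
    have hi := PGroup.inf_center_ne_bot hP D hne
    rcases (Nat.dvd_prime hp).1 (hZ ▸ Subgroup.card_dvd_of_le (inf_le_right : D ⊓ Z ≤ Z)) with h1 | h1
    · exact absurd (Subgroup.card_eq_one.1 h1) hi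
    · rw [← Subgroup.eq_of_le_of_card_ge (inf_le_right : D ⊓ Z ≤ Z) (by rw [h1, hZ])]
      exact inf_le_left
  have hqc : Nat.card (G ⧸ Z) = p ^ 4 := by
    have h1 := Z.card_eq_card_quotient_mul_card_subgroup
    rw [hyp.card, hZ, pow_succ] at h1
    exact (Nat.eq_of_mul_eq_mul_right hp.pos h1).symm
  obtain ⟨d, hd, hdZ⟩ : ∃ d ∈ D, d ∉ Z := by
    by_contra hall
    push Not at hall
    have := Subgroup.card_le_of_le (hall : D ≤ Z)
    rw [hD2, hZ] at this
    nth_rewrite 2 [← pow_one p] at this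
    rw [Nat.pow_le_pow_iff_right hp.one_lt] at this
    omega
  -- `D / Z` is central
  have hDcen : ∀ v ∈ D, ∀ y, ⁅v, y⁆ ∈ Z :=
    comm_mem_of_relIndex hP hZD (EssentialRankTwo.relIndex_eq_of_card hZD (by rw [hD2, hZ, sq]))
  -- the second centre
  set Z2 := Subgroup.upperCentralSeries G 2 with hZ2
  have hZ2mem : ∀ v, v ∈ Z2 ↔ ∀ y, ⁅v, y⁆ ∈ Z := fun v => by
    rw [hZ2, Subgroup.mem_upperCentralSeries_succ_iff, Subgroup.upperCentralSeries_one]
  have hDZ2 : D ≤ Z2 := fun v hv => (hZ2mem v).2 (hDcen v hv)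
  let hom : ∀ v : G, v ∈ Z2 → (G →* Z) := fun v hv =>
    MonoidHom.mk' (fun y => ⟨⁅v, y⁆, (hZ2mem v).1 hv y⟩) fun y y' => Subtype.ext (by
      show ⁅v, y * y'⁆ = ⁅v, y⁆ * ⁅v, y'⁆
      have h1 : Commute y ⁅v, y'⁆ := Subgroup.mem_center_iff.1 ((hZ2mem v).1 hv y') y
      rw [show ⁅v, y * y'⁆ = ⁅v, y⁆ * (y * ⁅v, y'⁆ * y⁻¹) by simp only [commutatorElement_def]; group,
        h1.eq, mul_inv_cancel_right])
  set C := Subgroup.centralizer (D : Set G) with hCdef
  have hcD : ∀ {y v : G}, y ∈ C → v ∈ D → Commute v y := fun hy hv =>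
    Subgroup.mem_centralizer_iff.1 hy _ hv
  have hZ2C : ∀ v ∈ Z2, v ∈ C := by
    intro v hv
    refine Subgroup.mem_centralizer_iff.2 fun u hu => ?_
    have h1 : hom v hv u = 1 := by
      have hker : D ≤ (hom v hv).ker := by
        rw [hD, commutator_def, Subgroup.commutator_le]
        intro a _ b _
        rw [MonoidHom.mem_ker, map_commutatorElement, commutatorElement_eq_one_iff_mul_comm]
        exact ((inferInstance : IsMulCommutative Z).is_comm.comm _ _)
      exact hker hu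
    exact (commutatorElement_eq_one_iff_commute.1 (congrArg Subtype.val h1)).eq.symm
  have hDd : D = Subgroup.zpowers d ⊔ Z := by
    refine (eq_of_le_of_lt (k := 1) hD2 (sup_le (Subgroup.zpowers_le.2 hd) hZD)
      (hZ.trans (pow_one p).symm) le_sup_right (Subgroup.mem_sup_left (Subgroup.mem_zpowers d)) hdZ).symm
  have hCidx : C.index = p := by
    have hker : (hom d (hDZ2 hd)).ker = C := by
      ext y
      constructor
      · intro hy
        refine Subgroup.mem_centralizer_iff.2 fun u hu => ?_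
        have hle : D ≤ Subgroup.centralizer {y} := by
          rw [hDd]
          exact sup_le (Subgroup.zpowers_le.2 (Subgroup.mem_centralizer_singleton_iff.2
            (commutatorElement_eq_one_iff_commute.1 (congrArg Subtype.val hy)).eq))
            (Subgroup.center_le_centralizer _)
        exact Subgroup.mem_centralizer_singleton_iff.1 (hle hu)
      · intro hy
        exact Subtype.ext (commutatorElement_eq_one_iff_commute.2 (hcD hy hd))
    rw [← hker, Subgroup.index_ker]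
    rcases (Nat.dvd_prime hp).1 (hZ ▸ Subgroup.card_subgroup_dvd_card (hom d (hDZ2 hd)).range) with h1 | h1
    · exfalso
      refine hdZ (Subgroup.mem_center_iff.2 fun y => ?_)
      have hm : hom d (hDZ2 hd) y ∈ (hom d (hDZ2 hd)).range := ⟨y, rfl⟩
      rw [Subgroup.card_eq_one.1 h1, Subgroup.mem_bot] at hm
      exact (commutatorElement_eq_one_iff_commute.1 (congrArg Subtype.val hm)).eq.symm
    · exact h1
  haveI hCn : C.Normal := PGroup.normal_of_coatom hP (PGroup.isCoatom_of_index_eq hCidx)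
  obtain ⟨x, hx⟩ : ∃ x, x ∉ C := by
    by_contra hall
    push Not at hall
    rw [(Subgroup.eq_top_iff' C).2 hall, Subgroup.index_top] at hCidx
    exact hp.one_lt.ne hCidx
  -- order of the second centre
  have hZ2c : Nat.card Z2 = p ^ 3 := by
    have hnc : ¬ ∀ a b : G ⧸ Z, Commute a b := fun hall => hdZ (by
      have hle : D ≤ Z := by
        rw [hD, commutator_def, Subgroup.commutator_le]
        intro a _ b _
        rw [← QuotientGroup.eq_one_iff]
        show QuotientGroup.mk' Z ⁅a, b⁆ = 1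
        rw [map_commutatorElement]
        exact commutatorElement_eq_one_iff_commute.2 (hall _ _)
      exact hle hd)
    have hC2 : ∀ a b : G ⧸ Z, ⁅a, b⁆ ∈ Subgroup.center (G ⧸ Z) := by
      intro a b
      obtain ⟨a, rfl⟩ := QuotientGroup.mk'_surjective Z a
      obtain ⟨b, rfl⟩ := QuotientGroup.mk'_surjective Z b
      rw [← map_commutatorElement]
      refine Subgroup.mem_center_iff.2 fun q => ?_
      obtain ⟨q, rfl⟩ := QuotientGroup.mk'_surjective Z q
      refine (commutatorElement_eq_one_iff_mul_comm.1 ?_).symm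
      rw [← map_commutatorElement]
      exact (QuotientGroup.eq_one_iff _).2 (hDcen _ (hcomm a b) q)
    rcases card_center_four hqc hnc with h1 | h1
    · exact (false_of_class_two hqc h1 hC2).elim
    · have hco : Z2 = (Subgroup.center (G ⧸ Z)).comap (QuotientGroup.mk' Z) := by
        ext v
        rw [hZ2mem, Subgroup.mem_comap, Subgroup.mem_center_iff]
        constructor
        · intro hv q
          obtain ⟨q, rfl⟩ := QuotientGroup.mk'_surjective Z q
          refine (commutatorElement_eq_one_iff_mul_comm.1 ?_).symm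
          rw [← map_commutatorElement]
          exact (QuotientGroup.eq_one_iff _).2 (hv q)
        · intro hv y
          refine (QuotientGroup.eq_one_iff _).1 ?_
          show QuotientGroup.mk' Z ⁅v, y⁆ = 1
          rw [map_commutatorElement]
          exact commutatorElement_eq_one_iff_mul_comm.2 (hv _).symm
      have h2 := Z2.card_mul_index
      rw [hco, Subgroup.index_comap_of_surjective _ (QuotientGroup.mk'_surjective Z)] at h2
      have h3 := (Subgroup.center (G ⧸ Z)).card_mul_index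
      rw [hqc, h1, show p ^ 4 = p ^ 2 * p ^ 2 by rw [← pow_add]] at h3
      rw [← hco, Nat.eq_of_mul_eq_mul_left (pow_pos hp.pos 2) h3, hyp.card,
        show p ^ 5 = p ^ 3 * p ^ 2 by rw [← pow_add]] at h2
      exact Nat.eq_of_mul_eq_mul_right (pow_pos hp.pos 2) h2
  -- generators
  have hCc : Nat.card C = p ^ 4 := card_of_index hyp.card hCidx
  obtain ⟨s, hs, hsZ2⟩ : ∃ s ∈ C, s ∉ Z2 := by
    by_contra hall
    push Not at hall
    have := Subgroup.card_le_of_le (hall : C ≤ Z2)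
    rw [hCc, hZ2c, Nat.pow_le_pow_iff_right hp.one_lt] at this
    omega
  obtain ⟨w, hw, hwD, hwx⟩ : ∃ w ∈ Z2, w ∉ D ∧ ⁅w, x⁆ = 1 := by
    let φ : Z2 →* Z := MonoidHom.mk' (fun v => hom v v.2 x) fun u v => Subtype.ext (by
      show ⁅(u : G) * v, x⁆ = ⁅(u : G), x⁆ * ⁅(v : G), x⁆
      have hu : ∀ y, Commute y ⁅(u : G), x⁆ := fun y =>
        Subgroup.mem_center_iff.1 ((hZ2mem u).1 u.2 x) y
      have hv : ∀ y, Commute y ⁅(v : G), x⁆ := fun y =>
        Subgroup.mem_center_iff.1 ((hZ2mem v).1 v.2 x) y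
      rw [show ⁅(u : G) * v, x⁆ = (u : G) * ⁅(v : G), x⁆ * (u : G)⁻¹ * ⁅(u : G), x⁆ by
        simp only [commutatorElement_def]; group, (hv _).eq, mul_inv_cancel_right, (hu _).eq])
    by_contra hall
    push Not at hall
    have hle : φ.ker.map Z2.subtype ≤ Z := by
      rintro _ ⟨v, hv, rfl⟩
      have hvD : (v : G) ∈ D := by
        by_contra hvD
        exact hall v v.2 hvD (congrArg Subtype.val hv)
      rw [hDd, Subgroup.mem_sup_of_normal_right] at hvD
      obtain ⟨u, ⟨i, rfl⟩, z, hz, hv'⟩ := hvD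
      show (v : G) ∈ Z
      by_cases hdi : d ^ i ∈ Z
      · rw [← hv']; exact Z.mul_mem hdi hz
      exfalso
      refine hx (Subgroup.mem_centralizer_iff.2 fun u hu => ?_)
      have hcv : Commute (v : G) x := commutatorElement_eq_one_iff_commute.1 (congrArg Subtype.val hv)
      have hD' : Subgroup.zpowers (v : G) ⊔ Z = D :=
        eq_of_le_of_lt (k := 1) hD2
          (sup_le (Subgroup.zpowers_le.2 (hv' ▸ D.mul_mem (D.zpow_mem hd i) (hZD hz))) hZD)
          (hZ.trans (pow_one p).symm) le_sup_right (Subgroup.mem_sup_left (Subgroup.mem_zpowers _))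
          (fun hm => hdi (by
            have := Z.mul_mem hm (Z.inv_mem hz)
            rwa [← hv', mul_inv_cancel_right] at this))
      have hDx : D ≤ Subgroup.centralizer {x} := hD' ▸ sup_le
        (Subgroup.zpowers_le.2 (Subgroup.mem_centralizer_singleton_iff.2 hcv.eq))
        (Subgroup.center_le_centralizer _)
      exact Subgroup.mem_centralizer_singleton_iff.1 (hDx hu)
    have h1 := Subgroup.card_le_of_le hle
    rw [Subgroup.card_map_of_injective Z2.subtype_injective, hZ] at h1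
    have h2 := φ.ker.card_mul_index
    rw [Subgroup.index_ker, hZ2c] at h2
    have h3 : Nat.card φ.range ≤ p := hZ ▸ Subgroup.card_le_card_group φ.range
    have h4 : p ^ 3 ≤ p ^ 2 := h2 ▸ (sq p).symm ▸ Nat.mul_le_mul h1 h3
    rw [Nat.pow_le_pow_iff_right hp.one_lt] at h4
    omega
  have hwdZ : Z2 = Subgroup.zpowers w ⊔ D :=
    (eq_of_le_of_lt hZ2c (sup_le (Subgroup.zpowers_le.2 hw) hDZ2) hD2 le_sup_right
      (Subgroup.mem_sup_left (Subgroup.mem_zpowers w)) hwD).symm
  have hCs : C = Subgroup.zpowers s ⊔ Z2 :=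
    (eq_of_le_of_lt hCc (sup_le (Subgroup.zpowers_le.2 hs) hZ2C) hZ2c le_sup_right
      (Subgroup.mem_sup_left (Subgroup.mem_zpowers s)) hsZ2).symm
  have htop : Subgroup.zpowers x ⊔ C = ⊤ := eq_top_of_notMem hP hCidx hx
  have hwZ2 : ∀ {v : G}, v ∈ Z2 → Commute w v := fun {v} hv => by
    have hle : Z2 ≤ Subgroup.centralizer {w} := hwdZ.le.trans (sup_le
      (Subgroup.zpowers_le.2 (Subgroup.mem_centralizer_singleton_iff.2 rfl)) fun u hu =>
        Subgroup.mem_centralizer_singleton_iff.2 (hcD (hZ2C w hw) hu).eq)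
    exact (Subgroup.mem_centralizer_singleton_iff.1 (hle hv)).symm
  have hws : ⁅w, s⁆ ≠ 1 := by
    intro h1
    refine hwD (hZD (Subgroup.mem_center_iff.2 fun y => ?_))
    have hle : Subgroup.zpowers x ⊔ C ≤ Subgroup.centralizer {w} := by
      rw [hCs]
      refine sup_le (Subgroup.zpowers_le.2 ?_) (sup_le (Subgroup.zpowers_le.2 ?_) fun v hv => ?_) <;>
        rw [Subgroup.mem_centralizer_singleton_iff]
      · exact (commutatorElement_eq_one_iff_commute.1 hwx).eq.symm
      · exact (commutatorElement_eq_one_iff_commute.1 h1).eq.symm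
      · exact (hwZ2 hv).eq.symm
    exact Subgroup.mem_centralizer_singleton_iff.1 (hle (htop ▸ Subgroup.mem_top y))
  have hsC : ∀ {v : G}, v ∈ C → ⁅s, v⁆ ∈ Z := by
    intro v hv
    obtain ⟨i, hi⟩ := exists_scal (hCs ▸ hv)
    have e : ⁅s, v⁆ = s ^ i * ⁅s, (s ^ i)⁻¹ * v⁆ * (s ^ i)⁻¹ := by
      simp only [commutatorElement_def]; group
    rw [e]
    refine (inferInstance : Z.Normal).conj_mem _ ?_ _
    rw [← commutatorElement_inv]
    exact inv_mem ((hZ2mem _).1 hi s)
  set c := ⁅s, x⁆ with hc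
  have hcZ : c ∉ Z := by
    intro hcZ
    refine hsZ2 ((hZ2mem s).2 fun y => ?_)
    have hle : Subgroup.zpowers x ⊔ C ≤
        (Subgroup.centralizer ({QuotientGroup.mk' Z s} : Set (G ⧸ Z))).comap (QuotientGroup.mk' Z) := by
      refine sup_le (Subgroup.zpowers_le.2 ?_) fun v hv => ?_ <;>
        rw [Subgroup.mem_comap, Subgroup.mem_centralizer_singleton_iff] <;>
        refine (commutatorElement_eq_one_iff_mul_comm.1 ?_).symm <;> rw [← map_commutatorElement] <;>
        refine (QuotientGroup.eq_one_iff _).2 ?_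
      · exact hcZ
      · exact hsC hv
    refine (QuotientGroup.eq_one_iff _).1 ?_
    show QuotientGroup.mk' Z ⁅s, y⁆ = 1
    rw [map_commutatorElement]
    exact commutatorElement_eq_one_iff_mul_comm.2
      (Subgroup.mem_centralizer_singleton_iff.1 (hle (htop ▸ Subgroup.mem_top y))).symm
  set z := ⁅c, x⁆
  have hz : z ∈ Z := hDcen c (hcomm s x) x
  have hzne : z ≠ 1 := by
    intro h1
    refine hcZ (Subgroup.mem_center_iff.2 fun y => ?_)
    have hle : Subgroup.zpowers x ⊔ C ≤ Subgroup.centralizer {c} := by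
      refine sup_le (Subgroup.zpowers_le.2 ?_) fun v hv => ?_ <;>
        rw [Subgroup.mem_centralizer_singleton_iff]
      · exact (commutatorElement_eq_one_iff_commute.1 h1).eq.symm
      · exact (hcD hv (hcomm s x)).eq.symm
    exact Subgroup.mem_centralizer_singleton_iff.1 (hle (htop ▸ Subgroup.mem_top y))
  have hZp : ∀ {v : G}, v ∈ Z → v ^ p = 1 := fun hv => by
    have := pow_card_eq_one' (G := Z) (x := ⟨_, hv⟩)
    rw [hZ] at this
    exact congrArg Subtype.val this
  have hz' : ⁅w, s⁆ ∈ Z := (hZ2mem w).1 hw s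
  have hDc : D.Characteristic := hD ▸ inferInstance
  have hZ2c' : Z2.Characteristic := hZ2 ▸ inferInstance
  have hCch : C.Characteristic := by
    haveI := hDc
    exact hCdef ▸ inferInstance
  refine ⟨w, hwD, fun α => ?_⟩
  obtain ⟨a, ha⟩ := exists_scal (N := C) (x := x) (y := α x) (htop ▸ Subgroup.mem_top _)
  obtain ⟨ν, hν⟩ := exists_scal (N := Z2) (x := s) (y := α s) (hCs ▸ map_mem_char hCch α hs)
  obtain ⟨l, hl⟩ := exists_scal (N := D) (x := w) (y := α w) (hwdZ ▸ map_mem_char hZ2c' α hw)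
  have hback : ∀ {H : Subgroup G}, H.Characteristic → ∀ {y : G}, α y ∈ H → y ∈ H := fun hH y hy => by
    have := map_mem_char hH α.symm hy
    rwa [MulEquiv.symm_apply_apply] at this
  have hap : ¬ p ∣ a := not_dvd_of_scal (by rw [← hCidx]; exact Subgroup.pow_index_mem _ x) ha
    fun hm => hx (hback hCch hm)
  have hνp : ¬ p ∣ ν := by
    refine not_dvd_of_scal ?_ hν fun hm => hsZ2 (hback hZ2c' hm)
    have hrel : (Z2.subgroupOf C).index = p :=
      EssentialRankTwo.relIndex_eq_of_card hZ2C (by rw [hCc, hZ2c, pow_succ'])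
    haveI : (Z2.subgroupOf C).Normal := inferInstance
    have := Subgroup.pow_index_mem (Z2.subgroupOf C) ⟨s, hs⟩
    rw [hrel] at this
    exact this
  have ec : (c ^ (ν * a))⁻¹ * α c ∈ Z :=
    scal_comm hν ha (fun y => hDcen _ (hcomm s x) y) (fun u hu => (hZ2mem u).1 hu x)
      (fun y hy => hsC hy) (fun u hu y _ => (hZ2mem u).1 hu y)
  have ez : α z = z ^ (ν * a * a) := by
    have := scal_comm (N' := (⊥ : Subgroup G)) ec ha (fun y => Subgroup.mem_bot.2 (hone hz y))
      (fun u hu => Subgroup.mem_bot.2 (hone hu x))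
      (fun y hy => Subgroup.mem_bot.2 (commutatorElement_eq_one_iff_commute.2 (hcD hy (hcomm s x))))
      (fun u hu y _ => Subgroup.mem_bot.2 (hone hu y))
    rw [Subgroup.mem_bot, inv_mul_eq_one] at this
    exact this.symm
  have ew : α ⁅w, s⁆ = ⁅w, s⁆ ^ (l * ν) := by
    have := scal_comm (N' := (⊥ : Subgroup G)) hl hν (fun y => Subgroup.mem_bot.2 (hone hz' y))
      (fun u hu => Subgroup.mem_bot.2 (commutatorElement_eq_one_iff_commute.2 (hcD hs hu)))
      (fun y hy => Subgroup.mem_bot.2 (commutatorElement_eq_one_iff_commute.2 (hwZ2 hy)))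
      (fun u hu y hy => Subgroup.mem_bot.2
        (commutatorElement_eq_one_iff_commute.2 (hcD (hZ2C y hy) hu)))
    rw [Subgroup.mem_bot, inv_mul_eq_one] at this
    exact this.symm
  obtain ⟨m, hm⟩ : ∃ m : ℕ, z ^ m = ⁅w, s⁆ := by
    have hle : Subgroup.zpowers z ≤ Z := Subgroup.zpowers_le.2 hz
    have heq := Subgroup.eq_of_le_of_card_ge hle
      (by rw [Nat.card_zpowers, orderOf_eq_prime (hZp hz) hzne, hZ])
    exact mem_powers_iff_mem_zpowers.2 (heq.ge hz')
  have key : ((ν * a * a : ℕ) : ZMod p) = ((l * ν : ℕ) : ZMod p) := by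
    refine natCast_eq_of_pow_eq hws (hZp hz') ?_
    rw [← ew, ← hm, map_pow, ez, ← pow_mul, ← pow_mul, mul_comm]
  have hl1 : (l : ZMod p) = 1 := by
    have ha0 : (a : ZMod p) ≠ 0 := fun h0 => hap ((ZMod.natCast_eq_zero_iff a p).1 h0)
    have hν0 : (ν : ZMod p) ≠ 0 := fun h0 => hνp ((ZMod.natCast_eq_zero_iff ν p).1 h0)
    push_cast at key
    subst hp3
    exact weights_three' _ _ _ ha0 hν0 key
  have hlm : l % p = 1 := by
    have := (ZMod.natCast_eq_natCast_iff' l 1 p).1 (by rw [hl1, Nat.cast_one])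
    rwa [Nat.mod_eq_of_lt hp.one_lt] at this
  have hwp : w ^ p ∈ D := by
    have hrel : (D.subgroupOf Z2).index = p :=
      EssentialRankTwo.relIndex_eq_of_card hDZ2 (by rw [hZ2c, hD2, pow_succ'])
    have := Subgroup.pow_index_mem (D.subgroupOf Z2) ⟨w, hw⟩
    rw [hrel] at this
    exact this
  have hwl : w⁻¹ * w ^ l ∈ D := by
    rw [← Nat.mod_add_div l p, hlm, pow_add, pow_one, inv_mul_cancel_left, pow_mul]
    exact D.pow_mem hwp _
  have := D.mul_mem hwl hl
  rwa [mul_assoc, mul_inv_cancel_left] at this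

end CfsgLib.Fus.OrderFive
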