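import Cfsg.Agent.Fus.OrderFive.Extend
import Cfsg.Agent.S5316

/-!
Essential elementary abelian subgroups of order `p ^ 3` in a group of order `p ^ 5` without abelian
subgroup of index `p`: the centre has order `p`, and `p = 3`.
-/

set_option autoImplicit false

open scoped commutatorElement

namespace CfsgLib.Fus.OrderFive

open Cfsg Cfsg.FusionSystem CfsgLib.Fus CfsgLib.Fusion.Alperin CfsgLib.Fus.EssentialElemCube

variable {G : Type*} [Group G] [Finite G] {p : ℕ} [Fact p.Prime]
  {F : Cfsg.FusionSystem (⊤ : Subgroup G)} {E : Subgroup G}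

/-- An elementary abelian essential subgroup of order `p ^ 3`. -/
structure EssCube (F : Cfsg.FusionSystem (⊤ : Subgroup G)) (p : ℕ) (E : Subgroup G) : Prop where
  ess : F.IsEssential p E
  card : Nat.card E = p ^ 3
  comm : ∀ x y : E, x * y = y * x
  exp : ∀ x : E, x ^ p = 1

theorem EssCube.start (h : EssCube F p E) : Start F p E :=
  ⟨h.card, fun x hx => congrArg Subtype.val (h.exp ⟨x, hx⟩),
    fun x hx y hy => congrArg Subtype.val (h.comm ⟨x, hx⟩ ⟨y, hy⟩), h.ess.1, h.ess.2.1,
    Cfsg.Agent.S5316.hasTI_of_essential h.ess h.comm⟩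

theorem EssCube.cube (h : EssCube F p E) (hyp : Hyp p G) : Cube p E :=
  (cube_of_conj h.start hyp.card (by norm_num) (isConj_refl F le_top)).1

theorem EssCube.index_normalizer (h : EssCube F p E) (hyp : Hyp p G) :
    (Subgroup.normalizer (E : Set G)).index = p :=
  index_of_card hyp.card (h.cube hyp).card_normalizer

/-- The centre of the normaliser inside `E`. -/
theorem EssCube.exists_center (h : EssCube F p E) (hyp : Hyp p G) :
    ∃ Z0 : Subgroup G, Z0 ≤ E ∧ Nat.card Z0 = p ^ 2 ∧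
      ∀ z ∈ Z0, ∀ a ∈ Subgroup.normalizer (E : Set G), Commute z a := by
  have hp : p.Prime := Fact.out
  have hcube := h.cube hyp
  set N := Subgroup.normalizer (E : Set G) with hN
  have hNn : N.Normal :=
    PGroup.normal_of_coatom hyp.isPGroup (PGroup.isCoatom_of_index_eq (h.index_normalizer hyp))
  obtain ⟨g, hg⟩ : ∃ g, g ∉ N := by
    by_contra hall
    push Not at hall
    have h1 := hcube.card_normalizer
    rw [← hN, (Subgroup.eq_top_iff' N).2 hall, Subgroup.card_top, hyp.card] at h1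
    have := Nat.pow_right_injective hp.two_le h1
    omega
  have hEN : E ≤ N := Subgroup.le_normalizer
  set E' := E.map (MulAut.conj g).toMonoidHom
  have hE'c : Nat.card E' = p ^ 3 := by
    rw [Subgroup.card_map_of_injective (MulEquiv.injective _), hcube.card]
  have hE'N : E' ≤ N := by
    rintro _ ⟨x, hx, rfl⟩
    exact hNn.conj_mem x (hEN hx) g
  have hE'comm : ∀ x ∈ E', ∀ y ∈ E', Commute x y := by
    rintro _ ⟨x, hx, rfl⟩ _ ⟨y, hy, rfl⟩
    exact (hcube.comm x hx y hy).map _
  obtain ⟨v, hv, hvE⟩ : ∃ v ∈ E', v ∉ E := by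
    by_contra hall
    push Not at hall
    refine hg (Subgroup.mem_normalizer_iff.2 fun x => ?_)
    have heq : E' = E := Subgroup.eq_of_le_of_card_ge hall (by rw [hE'c, hcube.card])
    constructor
    · intro hx
      exact heq.le ⟨x, hx, rfl⟩
    · intro hx
      obtain ⟨y, hy, hyx⟩ := heq.ge hx
      rwa [(MulAut.conj g).injective hyx] at hy
  have hsup : E ⊔ E' = N := eq_of_le_of_lt hcube.card_normalizer (sup_le hEN hE'N) hcube.card
    le_sup_left (Subgroup.mem_sup_right hv) hvE
  refine ⟨E ⊓ E', inf_le_left, ?_, fun z hz a ha => ?_⟩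
  · have hrel : ∀ X : Subgroup G, X ≤ N → Nat.card X = p ^ 3 → X.relIndex N = p := fun X hX hXc =>
      EssentialRankTwo.relIndex_eq_of_card hX (by rw [hcube.card_normalizer, hXc, pow_succ'])
    obtain ⟨i, hi⟩ := IsPGroup.iff_card.1 (hyp.isPGroup.to_subgroup (E ⊓ E'))
    have hle : (E ⊓ E').relIndex N ≤ p * p := Subgroup.relIndex_inf_le.trans
      (by rw [hrel E hEN hcube.card, hrel E' hE'N hE'c])
    have h1 := Subgroup.relIndex_mul_relIndex ⊥ (E ⊓ E') N bot_le (inf_le_left.trans hEN)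
    rw [Subgroup.relIndex_bot_left, Subgroup.relIndex_bot_left, hi, hcube.card_normalizer] at h1
    have hi2 : 2 ≤ i := by
      by_contra hlt
      have h2 : p ^ i * (E ⊓ E').relIndex N ≤ p ^ 1 * (p * p) :=
        Nat.mul_le_mul (Nat.pow_le_pow_right hp.pos (by omega)) hle
      rw [h1, show p ^ 1 * (p * p) = p ^ 3 by ring, Nat.pow_le_pow_iff_right hp.one_lt] at h2
      omega
    have hlt : Nat.card (E ⊓ E' : Subgroup G) < Nat.card E' :=
      lt_of_le_of_ne (Subgroup.card_le_of_le inf_le_right) fun he =>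
        hvE ((Subgroup.eq_of_le_of_card_ge inf_le_right he.ge).ge hv).1
    rw [hi, hE'c, Nat.pow_lt_pow_iff_right hp.one_lt] at hlt
    rw [hi, show i = 2 by omega]
  · have hle : E ⊔ E' ≤ Subgroup.centralizer {z} := sup_le
      (fun x hx => Subgroup.mem_centralizer_singleton_iff.2 (hcube.comm x hx z hz.1).eq)
      (fun x hx => Subgroup.mem_centralizer_singleton_iff.2 (hE'comm x hx z hz.2).eq)
    exact (Subgroup.mem_centralizer_singleton_iff.1 (hle (hsup.ge ha))).symm

/-- The automiser in `S` of an elementary essential subgroup consists of transvections. -/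
theorem EssCube.transvection (h : EssCube F p E) (hyp : Hyp p G) {τ : F.autGroup E}
    (hτ : τ ∈ autS F E) : ∀ v, disp (τ : MulAut E) (disp (τ : MulAut E) v) = 1 := by
  have hp : p.Prime := Fact.out
  obtain ⟨Z0, hZ0E, hZ0c, hZ0⟩ := h.exists_center hyp
  obtain ⟨x, hxv⟩ := mem_autS.1 hτ
  have hxN : x ∈ Subgroup.normalizer (E : Set G) := mem_normalizer_of_aut hxv
  set t : MulAut E := (τ : MulAut E)
  set D := dispHom h.comm t
  have hkerle : Z0.subgroupOf E ≤ D.ker := fun v hv => disp_eq_one.2 (Subtype.ext (by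
    rw [hxv, ← (hZ0 _ (Subgroup.mem_subgroupOf.1 hv) x hxN).eq, mul_inv_cancel_right]))
  have hrange : Nat.card D.range ≤ p := by
    have hprod := card_ker_mul_range D
    rw [h.card] at hprod
    refine Nat.le_of_mul_le_mul_left ?_ (pow_pos hp.pos 2)
    calc p ^ 2 * Nat.card D.range ≤ Nat.card D.ker * Nat.card D.range := by
          refine Nat.mul_le_mul_right _ ?_
          rw [← hZ0c, ← Nat.card_congr (Subgroup.subgroupOfEquivOfLe hZ0E).toEquiv]
          exact Subgroup.card_le_of_le hkerle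
      _ = p ^ 2 * p := by rw [hprod, pow_succ]
  obtain ⟨k, hk⟩ := exists_pow_eq_one hyp.isPGroup hτ
  intro v
  by_cases hv1 : disp t v = 1
  · rw [hv1]; exact map_one D
  have horde : orderOf (disp t v) = p := orderOf_eq_prime (h.exp _) hv1
  have hz : Subgroup.zpowers (disp t v) = D.range := Subgroup.eq_of_le_of_card_ge
    (Subgroup.zpowers_le.2 ⟨v, rfl⟩) (by rw [Nat.card_zpowers, horde]; exact hrange)
  refine disp_eq_one.2 (fix_of_stabilizes hk horde ?_)
  rw [hz]
  exact ⟨t v, (disp_comm (Commute.refl t) v).symm⟩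

/-- The automiser in `S` of an elementary essential subgroup has order at most `p`. -/
theorem EssCube.card_autS_le (h : EssCube F p E) (hyp : Hyp p G) :
    Nat.card (autS F E) ≤ p := by
  obtain ⟨M, hM, hPM⟩ := h.start.hasTI (autS F E) (isPGroup_autS hyp.isPGroup)
  exact card_le_of_mem h.comm h.exp h.card hM (isPGroup_autS hyp.isPGroup) hPM

/-- The data on the normaliser, the centre of `G` inside its centre. -/
theorem EssCube.exists_data (h : EssCube F p E) (hyp : Hyp p G) (hF : F.IsSaturated p) :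
    ∃ e w e1 : Subgroup.normalizer (E : Set G),
      NData p _ (F.autGroup (Subgroup.normalizer (E : Set G)))
        (autS F (Subgroup.normalizer (E : Set G))) e w e1 ∧
      E.subgroupOf (Subgroup.normalizer (E : Set G)) =
        Subgroup.zpowers e1 ⊔ Subgroup.center _ ∧
      (Subgroup.center G).subgroupOf (Subgroup.normalizer (E : Set G)) ≤ Subgroup.center _ := by
  obtain ⟨Z0, hZ0E, hZ0c, hZ0⟩ := h.exists_center hyp
  obtain ⟨e, w, e1, hd, hEq, -⟩ := exists_ndata hF hyp.isPGroup (h.cube hyp) h.ess.2.1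
    (fullyNormalized_of_index hyp.isPGroup (h.index_normalizer hyp)) h.start.hasTI hZ0E hZ0c hZ0
  exact ⟨e, w, e1, hd, hEq, fun z hz => Subgroup.mem_center_iff.2 fun a =>
    Subtype.ext (Subgroup.mem_center_iff.1 (Subgroup.mem_subgroupOf.1 hz) (a : G))⟩

/-- For `p ≥ 5` the normaliser's centre is central. -/
theorem EssCube.false_of_large (h : EssCube F p E) (hyp : Hyp p G) (hF : F.IsSaturated p)
    (hp5 : 5 ≤ p) (hZ : Nat.card (Subgroup.center G) = p) : False := by
  have hp : p.Prime := Fact.out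
  obtain ⟨e, w, e1, hd, -, -⟩ := h.exists_data hyp hF
  set N := Subgroup.normalizer (E : Set G)
  have hco := PGroup.isCoatom_of_index_eq (h.index_normalizer hyp)
  have hNn : N.Normal := PGroup.normal_of_coatom hyp.isPGroup hco
  have hle : (Subgroup.center N).map N.subtype ≤ Subgroup.center G := by
    rintro _ ⟨z, hz, rfl⟩
    refine Subgroup.mem_center_iff.2 fun y => ?_
    have hy : y ∈ Subgroup.normalizer (N : Set G) :=
      (Subgroup.normalizer_eq_top_iff.2 hNn).ge (Subgroup.mem_top y)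
    have hin := conjAut_mem_autInducedBy (K := (⊤ : Subgroup G)) hy (Subgroup.mem_top y)
    have h1 := hd.fixes_center hp5 ⟨conjAut hy, autInducedBy_le_autGroup F le_top hin⟩ hin z hz
    have h2 : y * (z : G) * y⁻¹ = z := congrArg Subtype.val h1
    exact mul_inv_eq_iff_eq_mul.1 h2
  have hc := Subgroup.card_le_of_le hle
  rw [Subgroup.card_map_of_injective N.subtype_injective, hd.card_center, hZ] at hc
  have : p ^ 1 < p ^ 2 := Nat.pow_lt_pow_right hp.one_lt (by norm_num)
  rw [pow_one] at this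
  omega

/-- The centre has order `p`. -/
theorem EssCube.card_center (h : EssCube F p E) (hyp : Hyp p G) (hF : F.IsSaturated p)
    (hp2 : p ≠ 2) : Nat.card (Subgroup.center G) = p := by
  have hp : p.Prime := Fact.out
  refine hyp.card_center.resolve_right fun hZ2 => ?_
  haveI : Fact (1 < p) := ⟨hp.one_lt⟩
  have hG := hyp.isPGroup
  have hidx := h.index_normalizer hyp
  have hcN := (h.cube hyp).card_normalizer
  set N := Subgroup.normalizer (E : Set G)
  obtain ⟨e, w, e1, hd, hEq, hZN⟩ : ∃ e w e1 : N,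
      NData p N (F.autGroup N) (autS F N) e w e1 ∧
      E.subgroupOf N = Subgroup.zpowers e1 ⊔ Subgroup.center N ∧
      (Subgroup.center G).subgroupOf N ≤ Subgroup.center N := h.exists_data hyp hF
  have hEN : E ≤ N := Subgroup.le_normalizer
  have hfnN : F.IsFullyNormalized N := fullyNormalized_of_index hG hidx
  have hco := PGroup.isCoatom_of_index_eq hidx
  have hNn : N.Normal := PGroup.normal_of_coatom hG hco
  have hnorm : ∀ y : G, y ∈ Subgroup.normalizer (N : Set G) := fun y =>
    (Subgroup.normalizer_eq_top_iff.2 hNn).ge (Subgroup.mem_top y)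
  let cj : G → F.autGroup N := fun y => ⟨conjAut (hnorm y),
    autInducedBy_le_autGroup F le_top (conjAut_mem_autInducedBy (hnorm y) (Subgroup.mem_top y))⟩
  have hcjP : ∀ y, cj y ∈ autS F N := fun y =>
    conjAut_mem_autInducedBy (hnorm y) (Subgroup.mem_top y)
  have hcjv : ∀ y (x : N), (((cj y : MulAut N) x : N) : G) = y * x * y⁻¹ := fun y x => rfl
  -- the centres coincide
  have hZeq : (Subgroup.center G).subgroupOf N = Subgroup.center N := by
    refine Subgroup.eq_of_le_of_card_ge hZN ?_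
    rw [hd.card_center, Nat.card_congr (Subgroup.subgroupOfEquivOfLe
      ((center_le_of_centric h.ess.1).trans hEN)).toEquiv, hZ2]
  have hZmem : ∀ z : N, z ∈ Subgroup.center N ↔ (z : G) ∈ Subgroup.center G := fun z => by
    rw [← hZeq, Subgroup.mem_subgroupOf]
  have hfix : ∀ β ∈ autS F N, ∀ z ∈ Subgroup.center N, (β : MulAut N) z = z := by
    intro β hβ z hz
    obtain ⟨y, hy⟩ := mem_autS.1 hβ
    refine Subtype.ext ?_
    rw [hy, Subgroup.mem_center_iff.1 ((hZmem z).1 hz) y, mul_inv_cancel_right]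
  set q1 : N ⧸ Subgroup.center N := (e1 : N ⧸ Subgroup.center N)
  -- elements keeping the line of `e1` lie in `N`
  have hkeep : ∀ y, topHom (cj y : MulAut N) q1 ∈ Subgroup.zpowers q1 → y ∈ N := by
    intro y hm
    have he1 : (cj y : MulAut N) e1 ∈ E.subgroupOf N := by
      rw [hEq]
      rw [topHom_mk] at hm
      obtain ⟨i, hi⟩ := hm
      change (e1 : N ⧸ Subgroup.center N) ^ i = _ at hi
      rw [← QuotientGroup.mk_zpow, QuotientGroup.eq] at hi
      rw [← mul_inv_cancel_left (e1 ^ i) ((cj y : MulAut N) e1)]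
      exact Subgroup.mul_mem_sup (Subgroup.zpow_mem _ (Subgroup.mem_zpowers _) i) hi
    refine mem_normalizer_of_comm fun x hx => ?_
    have h1 : (⟨x, hEN hx⟩ : N) ∈ (E.subgroupOf N).comap (cj y : MulAut N).toMonoidHom := by
      refine (hEq.le.trans (sup_le (Subgroup.zpowers_le.2 he1) fun u hu => ?_))
        (show _ ∈ E.subgroupOf N from hx)
      rw [Subgroup.mem_comap, hEq]
      refine Subgroup.mem_sup_right ?_
      show (cj y : MulAut N) u ∈ Subgroup.center N
      exact hd.center_mem _ hu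
    have h2 : y * x * y⁻¹ ∈ E := h1
    rw [commutatorElement_def]
    exact E.mul_mem h2 (E.inv_mem hx)
  obtain ⟨g, hg⟩ : ∃ g, g ∉ N := by
    by_contra hall
    push Not at hall
    exact hco.1 ((Subgroup.eq_top_iff' N).2 hall)
  set α := cj g with hαdef
  have hα : α ∈ autS F N := hcjP g
  obtain ⟨f, hf, hq1, hfe, hαf, hαe, hall⟩ := hd.exists_line hα fun hm => hg (hkeep g hm)
  set u := topHom (α : MulAut N) with hu
  -- the fixed line is invariant
  set C3 : Subgroup N := (Subgroup.zpowers f).comap (QuotientGroup.mk' (Subgroup.center N))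
  have hC3c : Nat.card C3 = p ^ 3 := by
    have h1 : C3.index = p := by
      rw [Subgroup.index_comap_of_surjective _ (QuotientGroup.mk'_surjective _)]
      have h2 := (Subgroup.zpowers f).card_mul_index
      rw [hd.card_quot, Nat.card_zpowers, orderOf_eq_prime (hd.exp_quot f) hf, sq] at h2
      exact Nat.eq_of_mul_eq_mul_left hp.pos h2
    exact card_of_index hcN h1
  have hline : ∀ r : F.autGroup N, topHom (r : MulAut N) f ∈ Subgroup.zpowers f := by
    intro r
    by_contra hr
    set T := topHom (r : MulAut N) with hT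
    obtain ⟨j, hj⟩ := exists_conj_line hd.card_quot hd.exp_quot hf hαf hαe hq1 hr
    have hTne : T f ≠ 1 := fun h0 => hf (T.injective (h0.trans (map_one T).symm))
    have hline2 : (u ^ j) q1 ∈ Subgroup.zpowers (T f) := by
      have heq := Subgroup.eq_of_le_of_card_ge (Subgroup.zpowers_le.2 hj) (by
        rw [Nat.card_zpowers, Nat.card_zpowers, orderOf_eq_prime (hd.exp_quot _) hTne,
          orderOf_eq_prime (hd.exp_quot _) (fun h0 => hq1 (by
            rw [(u ^ j).injective (h0.trans (map_one (u ^ j)).symm)]; exact one_mem _))])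
      rw [heq]
      exact Subgroup.mem_zpowers _
    set γ : F.autGroup N := r⁻¹ * α ^ j with hγ
    have hγq : topHom (γ : MulAut N) q1 ∈ Subgroup.zpowers f := by
      obtain ⟨i, hi⟩ := hline2
      rw [hγ, Subgroup.coe_mul, Subgroup.coe_inv, Subgroup.coe_pow, map_mul, map_inv, map_pow,
        MulAut.mul_apply, ← hu, ← show T f ^ i = (u ^ j) q1 from hi, map_zpow, MulAut.inv_apply_self]
      exact Subgroup.zpow_mem _ (Subgroup.mem_zpowers f) i
    set φ : E →* G := (N.subtype.comp (γ : MulAut N).toMonoidHom).comp (Subgroup.inclusion hEN)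
    have hφ : φ ∈ F.Hom E := restrict_mem F ((mem_autGroup_iff F le_top).1 γ.2) hEN
    have hr' : φ.range = C3.map N.subtype := by
      refine Subgroup.eq_of_le_of_card_ge ?_ ?_
      · rintro _ ⟨x, rfl⟩
        refine ⟨(γ : MulAut N) (Subgroup.inclusion hEN x), ?_, rfl⟩
        have hle : E.subgroupOf N ≤ C3.comap (γ : MulAut N).toMonoidHom := by
          rw [hEq]
          refine sup_le (Subgroup.zpowers_le.2 hγq) fun z hz => ?_
          show ((γ : MulAut N) z : N ⧸ Subgroup.center N) ∈ Subgroup.zpowers f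
          rw [(QuotientGroup.eq_one_iff _).2 (hd.center_mem _ hz)]
          exact one_mem _
        exact hle (show Subgroup.inclusion hEN x ∈ E.subgroupOf N from x.2)
      · rw [Subgroup.card_map_of_injective N.subtype_injective, hC3c, ← h.card]
        exact (Nat.card_congr (MonoidHom.ofInjective (F.injective_of_mem hφ)).toEquiv).le
    have hnC : ∀ y : G, y ∈ Subgroup.normalizer ((C3.map N.subtype : Subgroup G) : Set G) := by
      have hN : ∀ y : G, ∀ x ∈ C3, (cj y : MulAut N) x ∈ C3 := by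
        intro y x hx
        obtain ⟨hβf, -⟩ := hall (cj y) (hcjP y)
        obtain ⟨i, hi⟩ := (hx : (x : N ⧸ Subgroup.center N) ∈ Subgroup.zpowers f)
        show ((cj y : MulAut N) x : N ⧸ Subgroup.center N) ∈ Subgroup.zpowers f
        rw [← topHom_mk, ← show f ^ i = (x : N ⧸ Subgroup.center N) from hi, map_zpow, hβf]
        exact Subgroup.zpow_mem _ (Subgroup.mem_zpowers f) i
      intro y
      refine mem_normalizer_of_comm ?_
      rintro _ ⟨x, hx, rfl⟩
      refine ⟨(cj y : MulAut N) x * x⁻¹, C3.mul_mem (hN y x hx) (C3.inv_mem hx), ?_⟩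
      rw [commutatorElement_def]
      rfl
    have hle := h.ess.2.1.2 _ ⟨φ, hφ, hr'⟩
    rw [normalizerIn_top, normalizerIn_top, (Subgroup.eq_top_iff' _).2 hnC, Subgroup.card_top,
      hyp.card, hcN, Nat.pow_le_pow_iff_right hp.one_lt] at hle
    omega
  -- the torus
  have hl : (-1 : ZMod p) ≠ 0 := neg_ne_zero.2 one_ne_zero
  obtain ⟨r, hre, hrw, hre1, hrg⟩ := hd.torus (-1) hl
  set T := topHom (r : MulAut N) with hTdef
  have hfo : orderOf f = p := orderOf_eq_prime (hd.exp_quot f) hf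
  have hTf : T f = f ^ (1 : ZMod p).val := by
    rw [ZMod.val_one, pow_one]
    obtain ⟨gf, hgf⟩ := QuotientGroup.mk_surjective f
    have h1 := hrg gf
    rw [show ((-1 : ZMod p) * -1) = 1 by ring, ZMod.val_one, pow_one] at h1
    have h2 : T f * f⁻¹ ∈ Subgroup.zpowers q1 := by
      rw [← hgf, hTdef, topHom_mk, ← QuotientGroup.mk_inv, ← QuotientGroup.mk_mul]
      rw [Subgroup.mem_sup_of_normal_right] at h1
      obtain ⟨a, ⟨i, rfl⟩, z, hz, he⟩ := h1
      rw [← he, QuotientGroup.mk_mul, (QuotientGroup.eq_one_iff z).2 hz, mul_one, QuotientGroup.mk_zpow]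
      exact ⟨i, rfl⟩
    have h3 : T f * f⁻¹ ∈ Subgroup.zpowers f :=
      Subgroup.mul_mem _ (hline r) (Subgroup.inv_mem _ (Subgroup.mem_zpowers f))
    by_contra hne
    refine hfe ?_
    have h4 : T f * f⁻¹ ≠ 1 := fun h0 => hne (mul_inv_eq_one.1 h0)
    have heq : Subgroup.zpowers (T f * f⁻¹) = Subgroup.zpowers f := Subgroup.eq_of_le_of_card_ge
      (Subgroup.zpowers_le.2 h3) (by
        rw [Nat.card_zpowers, Nat.card_zpowers, hfo, orderOf_eq_prime (hd.exp_quot _) h4])
    exact (Subgroup.zpowers_le.2 h2) (heq.ge (Subgroup.mem_zpowers f))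
  have hd0 : ((-1 : ZMod p)⁻¹) ≠ 0 := inv_ne_zero hl
  have hTe : (q1 ^ ((-1 : ZMod p)⁻¹).val)⁻¹ * T q1 ∈ Subgroup.zpowers f := by
    rw [hTdef, topHom_mk, hre1, QuotientGroup.mk_pow, inv_mul_cancel]
    exact one_mem _
  have htop := hd.conj_top hf hq1 hαf hαe one_ne_zero hd0 hTf hTe
  rw [← hu, show (1 : ZMod p) / (-1 : ZMod p)⁻¹ = -1 by rw [one_div, inv_inv]] at htop
  set k := ((-1 : ZMod p)).val with hk
  have hr' : ∀ z ∈ Subgroup.center N, ∀ β ∈ autS F N,
      (r : MulAut N) ((β : MulAut N) ((r : MulAut N)⁻¹ z)) = z := fun z hz β hβ => by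
    rw [hfix β hβ _ (hd.center_mem _ hz), MulAut.apply_inv_self]
  have hαr : r * α * r⁻¹ ∈ autS F N := by
    have h1 : r * α * r⁻¹ * (α ^ k)⁻¹ ∈ autS F N := by
      refine hd.of_stabilizes _ ?_ fun z hz => ?_
      · rw [Subgroup.coe_mul, map_mul, htop, Subgroup.coe_inv, map_inv, Subgroup.coe_pow, map_pow,
          ← hu, mul_inv_cancel]
      · show (r : MulAut N) ((α : MulAut N) ((r : MulAut N)⁻¹ (((α ^ k)⁻¹ : F.autGroup N).1 z))) = z
        rw [hfix _ (Subgroup.inv_mem _ (Subgroup.pow_mem _ hα k)) z hz]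
        exact hr' z hz α hα
    have := Subgroup.mul_mem _ h1 (Subgroup.pow_mem _ hα k)
    rwa [inv_mul_cancel_right] at this
  have hrP : ∀ β ∈ autS F N, r * β * r⁻¹ ∈ autS F N := by
    intro β hβ
    obtain ⟨-, j, hj⟩ := hall β hβ
    have h1 : r * (β * (α ^ j)⁻¹) * r⁻¹ ∈ autS F N := by
      refine hd.of_stabilizes _ ?_ fun z hz => ?_
      · simp [map_mul, map_inv, map_pow, hj, hu]
      · exact hr' z hz (β * (α ^ j)⁻¹)
          (Subgroup.mul_mem _ hβ (Subgroup.inv_mem _ (Subgroup.pow_mem _ hα j)))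
    have := Subgroup.mul_mem _ h1 (Subgroup.pow_mem _ hαr j)
    rwa [conj_pow, show r * (β * (α ^ j)⁻¹) * r⁻¹ * (r * α ^ j * r⁻¹) = r * β * r⁻¹ by group]
      at this
  obtain ⟨ψ0, hψ0⟩ := exists_extend hG hF hfnN r hrP
  set Ψ : G →* G := ((Subgroup.normalizer (N : Set G)).subtype.comp
    (ψ0 : MulAut (Subgroup.normalizer (N : Set G))).toMonoidHom).comp
      ((MonoidHom.id G).codRestrict _ hnorm) with hΨ
  have hΨN : ∀ x : N, Ψ x = ((r : MulAut N) x : G) := fun x => hψ0 x
  -- the image of `g`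
  have hΨg : Ψ g * (g ^ k)⁻¹ ∈ N := by
    refine hkeep _ ?_
    have hcjm : ∀ y y', cj (y * y') = cj y * cj y' := fun y y' =>
      Subtype.ext (MulEquiv.ext fun x => Subtype.ext (by
        show y * y' * (x : G) * (y * y')⁻¹ = y * (y' * x * y'⁻¹) * y⁻¹
        group))
    let cjh : G →* F.autGroup N := MonoidHom.mk' cj hcjm
    have hcjr : cj (Ψ g) = r * cj g * r⁻¹ := by
      refine Subtype.ext (MulEquiv.ext fun x => Subtype.ext ?_)
      obtain ⟨x', rfl⟩ := (r : MulAut N).surjective x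
      show Ψ g * ((r : MulAut N) x' : G) * (Ψ g)⁻¹ =
        ((r : MulAut N) ((cj g : MulAut N) ((r : MulAut N)⁻¹ ((r : MulAut N) x'))) : G)
      rw [MulAut.inv_apply_self, ← hΨN, ← hΨN, ← map_inv, ← map_mul, ← map_mul]
      exact congrArg Ψ (hcjv g x').symm
    have h1 : topHom (cj (Ψ g * (g ^ k)⁻¹) : MulAut N) = 1 := by
      show topHom (cjh (Ψ g * (g ^ k)⁻¹) : MulAut N) = 1
      rw [map_mul, map_inv, map_pow]
      show topHom ((cj (Ψ g) * (cj g ^ k)⁻¹ : F.autGroup N) : MulAut N) = 1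
      rw [hcjr, ← hαdef, Subgroup.coe_mul, map_mul, htop, Subgroup.coe_inv, map_inv, Subgroup.coe_pow,
        map_pow, ← hu, mul_inv_cancel]
    rw [h1]
    exact Subgroup.mem_zpowers _
  -- an element over `f`
  obtain ⟨c, hcf⟩ := QuotientGroup.mk_surjective f
  have hcZ : (c : G) ∉ Subgroup.center G := fun hc => hf (by
    rw [← hcf, (QuotientGroup.eq_one_iff c).2 ((hZmem c).2 hc)])
  have hcommZ : ∀ y : G, ⁅(c : G), y⁆ ∈ Subgroup.center G := by
    intro y
    obtain ⟨hβf, -⟩ := hall (cj y) (hcjP y)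
    rw [← hcf, topHom_mk, eq_comm, QuotientGroup.eq, hZmem] at hβf
    have h1 : (c : G)⁻¹ * (y * c * y⁻¹) ∈ Subgroup.center G := hβf
    rw [← commutatorElement_inv]
    refine inv_mem ?_
    have h2 := (inferInstance : (Subgroup.center G).Normal).conj_mem _ h1 c
    rw [commutatorElement_def]
    convert h2 using 1
    group
  let φ : G →* Subgroup.center G := MonoidHom.mk' (fun y => ⟨⁅(c : G), y⁆, hcommZ y⟩) fun y y' =>
    Subtype.ext (by
      show ⁅(c : G), y * y'⁆ = ⁅(c : G), y⁆ * ⁅(c : G), y'⁆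
      have h1 : Commute y ⁅(c : G), y'⁆ := Subgroup.mem_center_iff.1 (hcommZ y') y
      rw [show ⁅(c : G), y * y'⁆ = ⁅(c : G), y⁆ * (y * ⁅(c : G), y'⁆ * y⁻¹) by
        simp only [commutatorElement_def]; group, h1.eq, mul_inv_cancel_right])
  set eG : Subgroup.center G := ⟨(e : G), (hZmem e).1 hd.e_mem⟩
  have hψc : Ψ (c : G) * (c : G)⁻¹ ∈ Subgroup.center G := by
    rw [hΨN]
    have h1 : topHom (r : MulAut N) f = f := by
      rw [← hTdef, hTf, ZMod.val_one, pow_one]
    rw [← hcf, topHom_mk, eq_comm, QuotientGroup.eq, hZmem] at h1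
    have h2 : (c : G)⁻¹ * ((r : MulAut N) c : G) ∈ Subgroup.center G := h1
    have h3 := (inferInstance : (Subgroup.center G).Normal).conj_mem _ h2 c
    convert h3 using 1
    group
  have hN0 : ∀ y ∈ N, φ y ∈ Subgroup.zpowers eG := by
    intro y hy
    obtain ⟨i, hi⟩ := hd.comm_mem c ⟨y, hy⟩
    refine ⟨i, Subtype.ext ?_⟩
    show ((eG ^ i : Subgroup.center G) : G) = ⁅(c : G), y⁆
    rw [Subgroup.coe_zpow]
    exact congrArg Subtype.val hi
  have hg0 : φ g ∈ Subgroup.zpowers eG := by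
    set v := φ g with hv
    have hvN : (v : G) ∈ N := (center_le_of_centric h.ess.1).trans hEN v.2
    -- `r` fixes the centre modulo `e`
    have hrv : ∃ i : ℤ, ((r : MulAut N) ⟨v, hvN⟩ : G) = (v : G) * (e : G) ^ i := by
      have h5 : (⟨v, hvN⟩ : N) ∈ Subgroup.center N := (hZmem _).2 v.2
      rw [← hd.center_eq] at h5
      haveI : (Subgroup.zpowers w).Normal := ⟨fun x hx y => by
        have hxc : x ∈ Subgroup.center N := (Subgroup.zpowers_le.2 hd.w_mem) hx
        rwa [Subgroup.mem_center_iff.1 hxc y, mul_inv_cancel_right]⟩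
      obtain ⟨_, ⟨a, rfl⟩, _, ⟨b, rfl⟩, hab⟩ := Subgroup.mem_sup_of_normal_right.1 h5
      obtain ⟨j, hj⟩ := hd.map_e (r : MulAut N)
      refine ⟨j * a - a, ?_⟩
      have h6 : (r : MulAut N) ⟨v, hvN⟩ = ⟨v, hvN⟩ * e ^ (j * a - a) := by
        rw [← hab, map_mul, map_zpow, map_zpow, hrw, ← show e ^ j = (r : MulAut N) e from hj,
          mul_assoc, ← zpow_mul]
        have hcw : Commute (w ^ b) (e ^ (j * a - a)) :=
          (Subgroup.mem_center_iff.1 (Subgroup.zpow_mem _ hd.w_mem b) _).symm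
        rw [hcw.eq, ← mul_assoc, ← zpow_add, add_sub_cancel]
      have h7 := congrArg (fun z : N => (z : G)) h6
      simpa using h7
    obtain ⟨i, hi⟩ := hrv
    have h1 : φ (Ψ g) = v * eG ^ i := by
      refine Subtype.ext ?_
      show ⁅(c : G), Ψ g⁆ = (v : G) * (e : G) ^ i
      rw [← hi, ← hΨN]
      show _ = Ψ ⁅(c : G), g⁆
      rw [map_commutatorElement]
      rw [← inv_mul_cancel_right (Ψ (c : G)) (c : G)]
      set d := Ψ (c : G) * (c : G)⁻¹
      have hdc : ∀ x, Commute d x := fun x => (Subgroup.mem_center_iff.1 hψc x).symm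
      rw [show ⁅d * (c : G), Ψ g⁆ = d * ⁅(c : G), Ψ g⁆ * d⁻¹ * ⁅d, Ψ g⁆ by
        simp only [commutatorElement_def]; group,
        commutatorElement_eq_one_iff_commute.2 (hdc _), mul_one, (hdc _).eq, mul_inv_cancel_right]
    have h2 : φ (Ψ g) = φ (Ψ g * (g ^ k)⁻¹) * v ^ k := by
      rw [hv, ← map_pow, ← map_mul, inv_mul_cancel_right]
    have h3 : v ^ ((k : ℤ) - 1) ∈ Subgroup.zpowers eG := by
      have h4 : v ^ (k : ℤ) * v⁻¹ = (φ (Ψ g * (g ^ k)⁻¹))⁻¹ * eG ^ i := by
        rw [zpow_natCast, eq_inv_mul_iff_mul_eq, ← mul_assoc, ← h2, h1]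
        haveI : IsMulCommutative (Subgroup.center G) := inferInstance
        rw [(IsMulCommutative.is_comm).comm v (eG ^ i), mul_inv_cancel_right]
      rw [zpow_sub_one, h4]
      exact Subgroup.mul_mem _ (Subgroup.inv_mem _ (hN0 _ hΨg))
        (Subgroup.zpow_mem _ (Subgroup.mem_zpowers _) i)
    have hvp : v ^ (p : ℤ) = 1 := by
      refine Subtype.ext ?_
      have h5 : (⟨v, hvN⟩ : N) ∈ Subgroup.center N := (hZmem _).2 v.2
      haveI : (Subgroup.zpowers w).Normal := ⟨fun x hx y => by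
        have hxc : x ∈ Subgroup.center N := (Subgroup.zpowers_le.2 hd.w_mem) hx
        rwa [Subgroup.mem_center_iff.1 hxc y, mul_inv_cancel_right]⟩
      rw [← hd.center_eq, Subgroup.mem_sup_of_normal_right] at h5
      obtain ⟨_, ⟨a, rfl⟩, _, ⟨b, rfl⟩, hab⟩ := h5
      have h6 : ((⟨v, hvN⟩ : N)) ^ p = 1 := by
        rw [← hab, Commute.mul_pow (Subgroup.mem_center_iff.1
          (Subgroup.zpow_mem _ hd.w_mem b) (e ^ a) : Commute (e ^ a) (w ^ b))]
        rw [← zpow_natCast, ← zpow_mul, mul_comm, zpow_mul, zpow_natCast, hd.e_pow, one_zpow,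
          one_mul, ← zpow_natCast, ← zpow_mul, mul_comm, zpow_mul, zpow_natCast, hd.w_pow, one_zpow]
      rw [Subgroup.coe_zpow, zpow_natCast, Subgroup.coe_one]
      exact congrArg Subtype.val h6
    have hcop : IsCoprime ((k : ℤ) - 1) (p : ℤ) := by
      refine ((Nat.prime_iff_prime_int.1 hp).coprime_iff_not_dvd.2 fun hdvd => ?_).symm
      rw [← ZMod.intCast_zmod_eq_zero_iff_dvd] at hdvd
      push_cast at hdvd
      rw [hk, ZMod.natCast_val, ZMod.cast_id] at hdvd
      have h2 : (2 : ZMod p) = 0 := by linear_combination -hdvd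
      have h2' : ((2 : ℕ) : ZMod p) = 0 := by exact_mod_cast h2
      rw [ZMod.natCast_eq_zero_iff] at h2'
      exact hp2 ((Nat.prime_dvd_prime_iff_eq hp Nat.prime_two).1 h2')
    obtain ⟨a, b, hab⟩ := hcop
    have : v = (v ^ ((k : ℤ) - 1)) ^ a * (v ^ (p : ℤ)) ^ b := by
      rw [← zpow_mul, ← zpow_mul, ← zpow_add, mul_comm _ a, mul_comm _ b, hab, zpow_one]
    rw [this, hvp, one_zpow, mul_one]
    exact Subgroup.zpow_mem _ h3 a
  have hrange : φ.range ≤ Subgroup.zpowers eG := by
    rintro _ ⟨y, rfl⟩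
    have htop : N ⊔ Subgroup.zpowers g = ⊤ := hco.2 _
      (lt_of_le_of_ne le_sup_left fun he => hg (he ▸ Subgroup.mem_sup_right (Subgroup.mem_zpowers g)))
    have hle : N ⊔ Subgroup.zpowers g ≤ (Subgroup.zpowers eG).comap φ :=
      sup_le hN0 (Subgroup.zpowers_le.2 hg0)
    exact hle (htop ▸ Subgroup.mem_top y)
  set C := φ.ker
  have hCidx : C.index ≤ p := by
    rw [Subgroup.index_ker]
    refine (Subgroup.card_le_of_le hrange).trans ?_
    rw [Nat.card_zpowers]
    have : eG ^ p = 1 := Subtype.ext (by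
      rw [Subgroup.coe_pow]; exact congrArg Subtype.val hd.e_pow)
    exact Nat.le_of_dvd hp.pos (orderOf_dvd_of_pow_eq_one this)
  have hCmem : ∀ y, y ∈ C ↔ Commute (c : G) y := fun y => by
    rw [MonoidHom.mem_ker, Subtype.ext_iff]
    exact commutatorElement_eq_one_iff_commute
  have hCne : C ≠ ⊤ := fun hC => hcZ (Subgroup.mem_center_iff.2 fun y =>
    ((hCmem y).1 (hC ▸ Subgroup.mem_top y)).eq.symm)
  have hCp : C.index = p := by
    obtain ⟨i, hi⟩ := hG.index C
    rw [hi] at hCidx ⊢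
    rcases i with _ | _ | i
    · exact absurd (Subgroup.index_eq_one.1 (hi.trans (pow_zero p))) hCne
    · exact pow_one p
    · exfalso
      have h1 : p ^ 1 < p ^ (i + 1 + 1) := Nat.pow_lt_pow_right hp.one_lt (by omega)
      rw [pow_one] at h1
      omega
  have hCc : Nat.card C = p ^ 4 := card_of_index hyp.card hCp
  have hnc : ¬ ∀ a b : C, Commute a b := fun hall' => by
    obtain ⟨a, ha, b, hb, hab⟩ := hyp.not_abelian C hCc
    exact hab (congrArg Subtype.val (hall' ⟨a, ha⟩ ⟨b, hb⟩).eq)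
  have hcC : (c : G) ∈ C := (hCmem _).2 (Commute.refl _)
  have hZC : Subgroup.center G ≤ C := fun z hz =>
    (hCmem z).2 (Subgroup.mem_center_iff.1 hz c)
  have hle : (Subgroup.center G).subgroupOf C ≤ Subgroup.center C := fun z hz =>
    Subgroup.mem_center_iff.2 fun a => Subtype.ext (Subgroup.mem_center_iff.1 hz (a : G))
  have hcc : (⟨c, hcC⟩ : C) ∈ Subgroup.center C :=
    Subgroup.mem_center_iff.2 fun a => Subtype.ext ((hCmem a).1 a.2).eq.symm
  have hlt : Nat.card ((Subgroup.center G).subgroupOf C) < Nat.card (Subgroup.center C) :=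
    lt_of_le_of_ne (Subgroup.card_le_of_le hle) fun he =>
      hcZ (Subgroup.mem_subgroupOf.1 ((Subgroup.eq_of_le_of_card_ge hle he.ge).ge hcc))
  rw [Nat.card_congr (Subgroup.subgroupOfEquivOfLe hZC).toEquiv, hZ2] at hlt
  rcases card_center_four hCc hnc with h1 | h1 <;> rw [h1] at hlt
  · have : p ^ 1 ≤ p ^ 2 := Nat.pow_le_pow_right hp.pos (by norm_num)
    rw [pow_one] at this
    omega
  · exact absurd hlt (lt_irrefl _)

end CfsgLib.Fus.OrderFive
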