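import Cfsg.Agent.Fus.OrderFive.Group
import Cfsg.Agent.Fus.EssentialElemCube.Setup

/-!
Automisers in `S` of subgroups: stabilisers of series, extension to the normaliser, and the torus on a
plane section of an essential subgroup.
-/

set_option autoImplicit false

open scoped commutatorElement

namespace CfsgLib.Fus.OrderFive

open Cfsg Cfsg.FusionSystem CfsgLib.Fus CfsgLib.Fusion.Alperin CfsgLib.Fus.EssentialElemCube
open CfsgLib.Fus.EssentialSmall

variable {G : Type*} [Group G] {p : ℕ} {F : Cfsg.FusionSystem (⊤ : Subgroup G)} {R : Subgroup G}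

/-- The automiser in `S` as a subgroup of the automiser. -/
abbrev autS (F : Cfsg.FusionSystem (⊤ : Subgroup G)) (R : Subgroup G) : Subgroup (F.autGroup R) :=
  (Cfsg.autInducedBy (⊤ : Subgroup G) R).subgroupOf (F.autGroup R)

theorem mem_autS {β : F.autGroup R} :
    β ∈ autS F R ↔ ∃ g : G, ∀ x : R, (((β : MulAut R) x : R) : G) = g * x * g⁻¹ := by
  rw [Subgroup.mem_subgroupOf, mem_autInducedBy_iff]
  exact ⟨fun ⟨g, _, hg⟩ => ⟨g, hg⟩, fun ⟨g, hg⟩ => ⟨g, Subgroup.mem_top g, hg⟩⟩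

variable [Finite G] [Fact p.Prime]

theorem isPGroup_autS (hG : IsPGroup p G) : IsPGroup p (autS F R) :=
  (isPGroup_autInducedBy (hG.to_subgroup ⊤) R).comap_of_injective _ (Subgroup.subtype_injective _)

theorem exists_pow_eq_one (hG : IsPGroup p G) {β : F.autGroup R} (hβ : β ∈ autS F R) :
    ∃ k, (β : MulAut R) ^ p ^ k = 1 := by
  obtain ⟨k, hk⟩ := isPGroup_autS hG ⟨β, hβ⟩
  exact ⟨k, congrArg (fun x : autS F R => ((x : F.autGroup R) : MulAut R)) hk⟩

theorem exists_sylow (hG : IsPGroup p G) (hF : F.IsSaturated p) (hfn : F.IsFullyNormalized R) :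
    ∃ P : Sylow p (F.autGroup R), (P : Subgroup (F.autGroup R)) = autS F R := by
  obtain ⟨⟨-, P, hP⟩, -⟩ := fullyNormalized_props (hG.to_subgroup ⊤) hF hfn
  exact ⟨P, hP⟩

/-- A subgroup of index `p` is fully normalised. -/
theorem fullyNormalized_of_index (hG : IsPGroup p G) (hR : R.index = p) : F.IsFullyNormalized R := by
  refine ⟨le_top, fun Q _ => ?_⟩
  have hn : R.Normal := PGroup.normal_of_coatom hG (PGroup.isCoatom_of_index_eq hR)
  rw [normalizerIn_top, normalizerIn_top, Subgroup.normalizer_eq_top_iff.2 hn, Subgroup.card_top]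
  exact Subgroup.card_le_card_group _

/-- Stabilisers of invariant series lie in the automiser in `S`. -/
theorem mem_autS_of_stabilizes (hG : IsPGroup p G) (hF : F.IsSaturated p)
    (hfn : F.IsFullyNormalized R) (n : ℕ) (L : ℕ → Subgroup R) (hL0 : L 0 = ⊥) (hLn : L n = ⊤)
    (hmono : Monotone L) (hinv : ∀ i, ∀ a ∈ F.autGroup R, ∀ x ∈ L i, a x ∈ L i) {β : F.autGroup R}
    (hβ : ∀ i < n, ∀ x ∈ L (i + 1), x⁻¹ * (β : MulAut R) x ∈ L i) : β ∈ autS F R := by
  haveI : Finite (MulAut R) := finite_mulAut R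
  have hmem : ∀ {i : ℕ} {x : R}, (x : G) ∈ (L i).map R.subtype ↔ x ∈ L i :=
    fun {i x} => Subgroup.mem_map_iff_mem R.subtype_injective
  refine mem_autInduced_of_pCore hF hG hfn (mem_pCore_of_stabilizes (hG.to_subgroup R) _ n
    (fun i => (L i).map R.subtype) ?_ ?_ ?_ ?_ ?_)
  · simp [hL0]
  · simp [hLn, ← MonoidHom.range_eq_map]
  · exact fun i j hij => Subgroup.map_mono (hmono hij)
  · exact fun i b hb x hx => hmem.2 (hinv i b hb x (hmem.1 hx))
  · exact fun i hi x hx => hmem.2 (hβ i hi x (hmem.1 hx))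

/-- With an invariant series with steps of order at most `p`, every automorphism normalises the
automiser in `S`. -/
theorem normalizes_of_series (hG : IsPGroup p G) (hF : F.IsSaturated p)
    (hfn : F.IsFullyNormalized R) (n : ℕ) (L : ℕ → Subgroup R) (hL0 : L 0 = ⊥) (hLn : L n = ⊤)
    (hmono : Monotone L) (hinv : ∀ i, ∀ a ∈ F.autGroup R, ∀ x ∈ L i, a x ∈ L i)
    (hnor : ∀ i < n, ((L i).subgroupOf (L (i + 1))).Normal)
    (hidx : ∀ i < n, (L i).relIndex (L (i + 1)) ∣ p) (α : F.autGroup R) :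
    ∀ β ∈ autS F R, α * β * α⁻¹ ∈ autS F R := by
  intro β hβ
  obtain ⟨k, hk⟩ := exists_pow_eq_one hG hβ
  refine mem_autS_of_stabilizes hG hF hfn n L hL0 hLn hmono hinv fun i hi x hx => ?_
  refine inv_mul_mem_of_relIndex (k := k) ?_ (hnor i hi) (hidx i hi)
    (fun y hy => hinv _ _ (α * β * α⁻¹).2 y hy) (fun y hy => hinv _ _ (α * β * α⁻¹).2 y hy) x hx
  show ((α : MulAut R) * β * (α : MulAut R)⁻¹) ^ p ^ k = 1
  rw [conj_pow, hk, mul_one, mul_inv_cancel]

/-- An automorphism normalising the automiser in `S` extends to the normaliser. -/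
theorem exists_extend (hG : IsPGroup p G) (hF : F.IsSaturated p) (hfn : F.IsFullyNormalized R)
    (α : F.autGroup R) (hnorm : ∀ β ∈ autS F R, α * β * α⁻¹ ∈ autS F R) :
    ∃ ψ : F.autGroup (Subgroup.normalizer (R : Set G)), ∀ x : R,
      ((ψ : MulAut (Subgroup.normalizer (R : Set G))) ⟨x, Subgroup.le_normalizer x.2⟩ : G) =
        ((α : MulAut R) x : G) := by
  set N := Subgroup.normalizer (R : Set G)
  set φ : R →* G := R.subtype.comp (α : MulAut R).toMonoidHom
  have hφ : φ ∈ F.Hom R := (mem_autGroup_iff F le_top).1 α.2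
  have hφr : φ.range = R := range_subtype_comp (α : MulAut R)
  obtain ⟨-, hrec⟩ := fullyNormalized_props (hG.to_subgroup ⊤) hF hfn
  have hext : N ≤ Cfsg.FusionSystem.extender (⊤ : Subgroup G) R φ := by
    intro g hg
    refine mem_extender_of_congr hφ hφr (Subgroup.mem_top g) hg ?_
    rw [show isoOf hφ hφr = (α : MulAut R) from MulEquiv.ext fun y => Subtype.ext rfl]
    have hin := conjAut_mem_autInducedBy (K := (⊤ : Subgroup G)) hg (Subgroup.mem_top g)
    exact hnorm ⟨conjAut hg, autInducedBy_le_autGroup F le_top hin⟩ hin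
  obtain ⟨ψ, hψ, hψR⟩ := exists_ext hrec hφ hφr (Subgroup.le_normalizer (H := R)) hext
  have hψN : ∀ g : N, ψ g ∈ N := by
    intro g
    refine mem_normalizer_of_comm fun y hy => ?_
    obtain ⟨v, hv⟩ := (α : MulAut R).surjective ⟨y, hy⟩
    have e0 : ψ (Subgroup.inclusion Subgroup.le_normalizer v) = y :=
      (hψR v).trans (congrArg Subtype.val hv)
    rw [← e0, ← map_commutatorElement]
    have hm : (g : G) * v * (g : G)⁻¹ * (v : G)⁻¹ ∈ R :=
      R.mul_mem ((Subgroup.mem_normalizer_iff.1 g.2 _).1 v.2) (R.inv_mem v.2)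
    rw [show ⁅g, Subgroup.inclusion Subgroup.le_normalizer v⁆ =
      Subgroup.inclusion Subgroup.le_normalizer ⟨_, hm⟩ from Subtype.ext rfl, hψR]
    exact ((α : MulAut R) ⟨_, hm⟩).2
  have hψr : ψ.range = N := by
    refine Subgroup.eq_of_le_of_card_ge ?_ ?_
    · rintro _ ⟨g, rfl⟩; exact hψN g
    · exact (Nat.card_congr (MonoidHom.ofInjective (F.injective_of_mem hψ)).toEquiv).le
  exact ⟨⟨isoOf hψ hψr, isoOf_mem_autGroup hψ hψr⟩, fun x => hψR x⟩

/-- A centric subgroup contains the centre. -/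
theorem center_le_of_centric (hR : F.IsCentric R) : Subgroup.center G ≤ R := by
  refine le_trans ?_ (hR.2 R (isConj_refl F le_top))
  rw [centralizerIn_top]
  exact Subgroup.center_le_centralizer _

/-- A plane section of an essential subgroup carries a torus. -/
theorem exists_plane_torus (hG : IsPGroup p G) (hR : F.IsEssential p R) {L1 D : Subgroup R}
    [D.Normal] [hL1n : L1.Normal] (hL1D : L1 ≤ D) (hL1 : Nat.card L1 ∣ p) (hD : L1.relIndex D ∣ p)
    (hL1i : ∀ a ∈ F.autGroup R, ∀ x ∈ L1, a x ∈ L1) (hDi : ∀ a ∈ F.autGroup R, ∀ x ∈ D, a x ∈ D)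
    (hW : Nat.card (R ⧸ D) = p ^ 2) (hexp : ∀ q : R ⧸ D, q ^ p = 1) {l : ZMod p} (hl : l ≠ 0) :
    ∀ (v : R), v ∉ D → ∀ τ ∈ autS F R, v⁻¹ * (τ : MulAut R) v ∈ D →
      (∃ u : R, u⁻¹ * (τ : MulAut R) u ∉ D) →
      ∃ (r : F.autGroup R) (u : R), (u : R ⧸ D) ∉ Subgroup.zpowers (v : R ⧸ D) ∧
        (v ^ l.val)⁻¹ * (r : MulAut R) v ∈ D ∧
        (u ^ (l⁻¹ : ZMod p).val)⁻¹ * (r : MulAut R) u ∈ D := by
  have hmapD : ∀ a : F.autGroup R, D.map (a : MulAut R).toMonoidHom = D := fun a =>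
    Subgroup.eq_of_le_of_card_ge (by rintro _ ⟨x, hx, rfl⟩; exact hDi a a.2 x hx)
      (by rw [Subgroup.card_map_of_injective (MulEquiv.injective _)])
  let θ : F.autGroup R →* MulAut (R ⧸ D) :=
    { toFun := fun a => QuotientGroup.congr D D a (hmapD a)
      map_one' := MulEquiv.ext fun q => QuotientGroup.induction_on q fun _ => rfl
      map_mul' := fun a b => MulEquiv.ext fun q => QuotientGroup.induction_on q fun _ => rfl }
  have hθ : ∀ (a : F.autGroup R) (x : R), θ a (x : R ⧸ D) = (((a : MulAut R) x : R) : R ⧸ D) :=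
    fun a x => rfl
  intro v hv τ hτ hτv hτu
  set f : R ⧸ D := (v : R ⧸ D) with hf'
  have hf : f ≠ 1 := fun h => hv ((QuotientGroup.eq_one_iff v).1 h)
  have haf : θ τ f = f := by rw [hf', hθ, eq_comm, QuotientGroup.eq]; exact hτv
  have hfo : orderOf f = p := orderOf_eq_prime (hexp f) hf
  have hWc : ∀ x y : R ⧸ D, x * y = y * x :=
    (IsPGroup.isMulCommutative_of_card_eq_prime_sq hW).is_comm.comm
  -- some automorphism moves the fixed line
  obtain ⟨k, hk⟩ : ∃ k : F.autGroup R, θ k f ∉ Subgroup.zpowers f := by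
    by_contra hall
    push Not at hall
    set Fl : Subgroup R := (Subgroup.zpowers f).comap (QuotientGroup.mk' D)
    haveI hfn : (Subgroup.zpowers f).Normal :=
      ⟨fun x hx g => by rwa [hWc g x, mul_inv_cancel_right]⟩
    have hFln : Fl.Normal := hfn.comap _
    have hDF : D ≤ Fl := fun x hx => by
      show (x : R ⧸ D) ∈ Subgroup.zpowers f
      rw [(QuotientGroup.eq_one_iff x).2 hx]
      exact one_mem _
    have hFi : ∀ a ∈ F.autGroup R, ∀ x ∈ Fl, a x ∈ Fl := by
      intro a ha x hx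
      obtain ⟨i, hi⟩ := (hx : (x : R ⧸ D) ∈ Subgroup.zpowers f)
      show ((a x : R) : R ⧸ D) ∈ Subgroup.zpowers f
      rw [← hθ ⟨a, ha⟩ x, ← show f ^ i = (x : R ⧸ D) from hi, map_zpow]
      exact Subgroup.zpow_mem _ (hall ⟨a, ha⟩) i
    have hcF : D.relIndex Fl = p := by
      have h1 : Fl.index = p := by
        rw [Subgroup.index_comap_of_surjective _ (QuotientGroup.mk'_surjective D)]
        have h2 := (Subgroup.zpowers f).card_mul_index
        rw [hW, Nat.card_zpowers, hfo, sq] at h2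
        exact Nat.eq_of_mul_eq_mul_left (Fact.out : p.Prime).pos h2
      have h3 := Subgroup.relIndex_mul_index hDF
      rw [h1, Subgroup.index_eq_card, hW, sq] at h3
      exact Nat.eq_of_mul_eq_mul_right (Fact.out : p.Prime).pos h3
    refine EssentialSmall.false_of_stabilizes (hG.to_subgroup ⊤) hR 4
      (fun i => if i = 0 then ⊥ else if i = 1 then L1 else if i = 2 then D else
        if i = 3 then Fl else ⊤) rfl rfl
      (monotone_nat_of_le_succ fun i => ?_) (fun i a ha x hx => ?_) fun a ha k hk i hi x hx => ?_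
    · rcases i with _ | _ | _ | _ | i
      exacts [bot_le, hL1D, hDF, le_top, le_rfl]
    · rcases i with _ | _ | _ | _ | i
      · rw [show x = 1 from Subgroup.mem_bot.1 hx, map_one]; exact one_mem _
      exacts [hL1i a ha x hx, hDi a ha x hx, hFi a ha x hx, Subgroup.mem_top _]
    · interval_cases i
      · show x⁻¹ * a x ∈ (⊥ : Subgroup R)
        exact inv_mul_mem_of_relIndex (M := L1) hk inferInstance
          (by simpa [Subgroup.relIndex_bot_left] using hL1) (hL1i a ha)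
          (fun y hy => by rw [show y = 1 from Subgroup.mem_bot.1 hy, map_one]; exact one_mem _) x hx
      · show x⁻¹ * a x ∈ L1
        exact inv_mul_mem_of_relIndex (M := D) hk inferInstance hD (hDi a ha) (hL1i a ha) x hx
      · show x⁻¹ * a x ∈ D
        exact inv_mul_mem_of_relIndex (M := Fl) hk inferInstance hcF.dvd (hFi a ha) (hDi a ha) x hx
      · show x⁻¹ * a x ∈ Fl
        refine inv_mul_mem_of_relIndex (M := ⊤) hk inferInstance ?_ (fun _ _ => Subgroup.mem_top _)
          (hFi a ha) x hx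
        show Fl.relIndex ⊤ ∣ p
        rw [Subgroup.relIndex_top_right, Subgroup.index_comap_of_surjective _
          (QuotientGroup.mk'_surjective D)]
        have h2 := (Subgroup.zpowers f).card_mul_index
        rw [hW, Nat.card_zpowers, hfo, sq] at h2
        exact (Nat.eq_of_mul_eq_mul_left (Fact.out : p.Prime).pos h2).dvd
  set u0 := θ τ with hu0
  set ρ := θ k with hρ
  set f2 := ρ f with hf2
  set b := θ (k * τ * k⁻¹) with hb
  have hbf2 : b f2 = f2 := by
    rw [hb, map_mul, map_mul, map_inv, hf2, MulAut.mul_apply, MulAut.mul_apply, MulAut.inv_apply_self,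
      haf]
  have hf2ne : f2 ≠ 1 := fun h0 => hf (ρ.injective (h0.trans (map_one ρ).symm))
  have hu1 : u0 ≠ 1 := by
    obtain ⟨u, hu⟩ := hτu
    intro h0
    apply hu
    rw [← QuotientGroup.eq, ← hθ τ u, ← hu0, h0]
    rfl
  obtain ⟨i0, hi0⟩ := exists_pow_eq_one hG hτ
  have hτk : τ ^ p ^ i0 = 1 := Subtype.ext hi0
  have huk : u0 ^ p ^ i0 = 1 := by rw [hu0, ← map_pow, hτk, map_one]
  have hbk : b ^ p ^ i0 = 1 := by
    rw [hb, ← map_pow, conj_pow, hτk, mul_one, mul_inv_cancel, map_one]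
  have hn : ∀ K : Subgroup (R ⧸ D), (K.subgroupOf ⊤).Normal := fun K =>
    ⟨fun x hx y => by rwa [show y * x * y⁻¹ = x from Subtype.ext (by
      simp [hWc (y : R ⧸ D) x])]⟩
  have hf2o : orderOf f2 = p := orderOf_eq_prime (hexp f2) hf2ne
  -- shifts
  have hshift : ∀ (a : MulAut (R ⧸ D)) (g : R ⧸ D), a ^ p ^ i0 = 1 → a g = g → g ≠ 1 → ∀ q,
      q⁻¹ * a q ∈ Subgroup.zpowers g := by
    intro a g hak hag hg q
    refine inv_mul_mem_of_relIndex (M := ⊤) hak (hn _) ?_ (fun _ _ => Subgroup.mem_top _) ?_ _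
      (Subgroup.mem_top _)
    · rw [EssentialRankTwo.relIndex_eq_of_card le_top (m := p) (by
        rw [Subgroup.card_top, hW, Nat.card_zpowers, orderOf_eq_prime (hexp g) hg, sq])]
    · rintro _ ⟨i, rfl⟩
      rw [map_zpow, hag]
      exact Subgroup.zpow_mem _ (Subgroup.mem_zpowers g) i
  obtain ⟨s', hs'⟩ := exists_zmod_pow hfo (hshift u0 f huk haf hf f2)
  obtain ⟨s, hs⟩ := exists_zmod_pow hf2o (hshift b f2 hbk hbf2 hf2ne f)
  have huf2 : u0 f2 = f2 * f ^ s'.val := by rw [← hs', mul_inv_cancel_left]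
  have hbf : b f = f * f2 ^ s.val := by rw [← hs, mul_inv_cancel_left]
  have hext : ∀ a : MulAut (R ⧸ D), a f = f → a f2 = f2 → a = 1 := fun a h1 h2 => by
    have htop := eq_top_of_mem hW hf (hexp f) hk
      (K := MonoidHom.eqLocus (a : R ⧸ D →* R ⧸ D) (MonoidHom.id _)) h1 h2
    refine MulEquiv.ext fun q => ?_
    have hq : q ∈ MonoidHom.eqLocus (a : R ⧸ D →* R ⧸ D) (MonoidHom.id _) :=
      htop ▸ Subgroup.mem_top q
    exact hq
  have hs'0 : s' ≠ 0 := fun h0 => hu1 (hext u0 haf (by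
    rw [huf2, h0, ZMod.val_zero, pow_zero, mul_one]))
  have hs0 : s ≠ 0 := fun h0 => hu1 (by
    have hb1 := hext b (by rw [hbf, h0, ZMod.val_zero, pow_zero, mul_one]) hbf2
    rw [hb, map_mul, map_mul, map_inv, ← hu0, mul_inv_eq_one, mul_eq_left] at hb1
    exact hb1)
  obtain ⟨i1, i2, i3, i4, i5, i6, hW1, hW2⟩ :=
    exists_torus_two hWc hexp haf hs'0 huf2 hbf2 hs0 hbf l hl
  refine ⟨τ ^ i1 * (k * τ * k⁻¹) ^ i2 * τ ^ i3 * (τ ^ i4 * (k * τ * k⁻¹) ^ i5 * τ ^ i6),
    (k : MulAut R) v, ?_, ?_, ?_⟩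
  · rw [← hθ]
    exact hk
  · rw [← QuotientGroup.eq, QuotientGroup.mk_pow, ← hθ]
    simp only [map_mul θ, map_pow θ]
    simp only [hb, hu0, map_mul θ] at hW1
    exact hW1.symm
  · rw [← QuotientGroup.eq, QuotientGroup.mk_pow, ← hθ, ← hθ]
    simp only [map_mul θ, map_pow θ]
    simp only [hb, hu0, hf2, hρ, hf', map_mul θ, hθ] at hW2
    exact hW2.symm

end CfsgLib.Fus.OrderFive
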