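import Cfsg.Agent.Fus.OrderFive.Cube
import Cfsg.Agent.Fus.EssentialOmit
import Cfsg.Agent.Fusion.Alperin.Puig
import Cfsg.Agent.PGroup.Normal

/-!
A maximal subgroup containing the derived subgroup that every automorphism of `S` fixes contains the
focal subgroup, for `|S| = p ^ 5` without abelian subgroup of index `p` and centre of order `p`.
-/

set_option autoImplicit false

open scoped commutatorElement

namespace CfsgLib.Fus.OrderFive

open Cfsg Cfsg.FusionSystem CfsgLib.Fus CfsgLib.Fusion.Alperin CfsgLib.Fus.EssentialElemCube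
open CfsgLib.Fus.EssentialSmall

variable {G : Type*} [Group G] {p : ℕ} {F : Cfsg.FusionSystem (⊤ : Subgroup G)}

/-- The automorphisms that keep every coset of `K`. -/
def kept (K : Subgroup G) [K.Normal] {R : Subgroup G} (A : Subgroup (MulAut R)) : Subgroup A where
  carrier := {a | ∀ x : R, ((((a : MulAut R) x : R) : G) : G ⧸ K) = ((x : G) : G ⧸ K)}
  one_mem' := fun _ => rfl
  mul_mem' := fun {a b} ha hb x => (ha _).trans (hb x)
  inv_mem' := fun {a} ha x => by
    have h := ha ((a : MulAut R)⁻¹ x)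
    rw [MulAut.apply_inv_self] at h
    exact h.symm

theorem mem_kept {K : Subgroup G} [K.Normal] {R : Subgroup G} {A : Subgroup (MulAut R)} {a : A} :
    a ∈ kept K A ↔ ∀ x : R, (x : G)⁻¹ * ((a : MulAut R) x : G) ∈ K := by
  refine forall_congr' fun x => ?_
  rw [eq_comm, QuotientGroup.eq]

variable [Finite G] [Fact p.Prime]

/-- Every automorphism of an essential subgroup has a partner inverting a plane section. -/
theorem exists_plane_inverter (hG : IsPGroup p G) (hF : F.IsSaturated p) {R : Subgroup G}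
    (hR : F.IsEssential p R) {L1 D : Subgroup R} [D.Normal] [L1.Normal] (hL1D : L1 ≤ D)
    (hL1 : Nat.card L1 ∣ p) (hD : L1.relIndex D ∣ p)
    (hL1i : ∀ a ∈ F.autGroup R, ∀ x ∈ L1, a x ∈ L1) (hDi : ∀ a ∈ F.autGroup R, ∀ x ∈ D, a x ∈ D)
    (hW : Nat.card (R ⧸ D) = p ^ 2) (hexp : ∀ q : R ⧸ D, q ^ p = 1) :
    ∃ r : F.autGroup R, ∀ x : R, x * (r : MulAut R) x ∈ D := by
  haveI : Finite (MulAut R) := finite_mulAut R
  have hp : p.Prime := Fact.out
  -- a moved coset
  obtain ⟨τ, hτ, u0, hu0⟩ : ∃ τ ∈ autS F R, ∃ u : R, u⁻¹ * (τ : MulAut R) u ∉ D := by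
    by_contra hall
    push Not at hall
    obtain ⟨P, hP⟩ := exists_sylow hG hF hR.2.1
    refine not_normal_sylow hR P ?_
    have heq : (P : Subgroup (F.autGroup R)) = Cfsg.pCore p (F.autGroup R) := by
      refine le_antisymm (fun β hβ => ?_) (CharP.pCore_le_sylow P)
      rw [hP] at hβ
      obtain ⟨k, hk⟩ := exists_pow_eq_one hG hβ
      have hmem : ∀ {L : Subgroup R} {x : R}, (x : G) ∈ L.map R.subtype ↔ x ∈ L :=
        fun {L x} => Subgroup.mem_map_iff_mem R.subtype_injective
      refine mem_pCore_of_stabilizes (hG.to_subgroup R) _ 3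
        (fun i => if i = 0 then ⊥ else if i = 1 then L1.map R.subtype else
          if i = 2 then D.map R.subtype else R) rfl le_rfl
        (monotone_nat_of_le_succ fun i => ?_) (fun i a ha x hx => ?_) fun i hi x hx => ?_
      · rcases i with _ | _ | _ | i
        exacts [bot_le, Subgroup.map_mono hL1D, Subgroup.map_subtype_le _, le_rfl]
      · rcases i with _ | _ | _ | i
        · rw [show x = 1 from Subtype.ext (Subgroup.mem_bot.1 hx), map_one]; exact one_mem _
        exacts [hmem.2 (hL1i a ha x (hmem.1 hx)), hmem.2 (hDi a ha x (hmem.1 hx)), (a x).2]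
      · interval_cases i
        · show (x : G)⁻¹ * ((β : MulAut R) x : G) ∈ (⊥ : Subgroup G)
          have h1 : x⁻¹ * (β : MulAut R) x ∈ (⊥ : Subgroup R) :=
            inv_mul_mem_of_relIndex (M := L1) hk inferInstance
              (by simpa [Subgroup.relIndex_bot_left] using hL1) (hL1i _ β.2)
              (fun y hy => by rw [show y = 1 from Subgroup.mem_bot.1 hy, map_one]; exact one_mem _)
              x (hmem.1 hx)
          exact Subgroup.mem_bot.2 (congrArg Subtype.val (Subgroup.mem_bot.1 h1))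
        · exact hmem.2 (inv_mul_mem_of_relIndex (M := D) hk inferInstance hD (hDi _ β.2) (hL1i _ β.2)
            x (hmem.1 hx))
        · exact hmem.2 (hall β hβ x)
    rw [heq]
    exact Cfsg.pCore_normal p _
  obtain ⟨i0, hi0⟩ := exists_pow_eq_one hG hτ
  have hWc : ∀ x y : R ⧸ D, x * y = y * x :=
    (IsPGroup.isMulCommutative_of_card_eq_prime_sq hW).is_comm.comm
  have hmapD : D.map (τ : MulAut R).toMonoidHom = D :=
    Subgroup.eq_of_le_of_card_ge (by rintro _ ⟨x, hx, rfl⟩; exact hDi _ τ.2 x hx)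
      (by rw [Subgroup.card_map_of_injective (MulEquiv.injective _)])
  set T : MulAut (R ⧸ D) := QuotientGroup.congr D D (τ : MulAut R) hmapD
  have hT : ∀ x : R, T (x : R ⧸ D) = (((τ : MulAut R) x : R) : R ⧸ D) := fun x => rfl
  have hTk : T ^ p ^ i0 = 1 := by
    have hiter : ∀ (m : ℕ) (x : R), (T ^ m) (x : R ⧸ D) = ((((τ : MulAut R) ^ m) x : R) : R ⧸ D) := by
      intro m
      induction m with
      | zero => intro x; rfl
      | succ m ih => intro x; rw [pow_succ, pow_succ, MulAut.mul_apply, hT, ih]; rfl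
    refine MulEquiv.ext fun q => QuotientGroup.induction_on q fun x => ?_
    rw [hiter, hi0]
    rfl
  -- a fixed coset
  obtain ⟨v, hv, hvT⟩ : ∃ v : R ⧸ D, v ≠ 1 ∧ T v = v := by
    have hU : IsPGroup p (Subgroup.zpowers T) := by
      rintro ⟨_, i, rfl⟩
      refine ⟨i0, Subtype.ext ?_⟩
      show (T ^ i) ^ p ^ i0 = 1
      rw [← zpow_natCast, ← zpow_mul, mul_comm, zpow_mul, zpow_natCast, hTk, one_zpow]
    have h1 : (1 : R ⧸ D) ∈ MulAction.fixedPoints (Subgroup.zpowers T) (R ⧸ D) :=
      fun g => map_one (g : MulAut (R ⧸ D))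
    obtain ⟨v, hv, hne⟩ := hU.exists_fixed_point_of_prime_dvd_card_of_fixed_point (R ⧸ D)
      (hW ▸ dvd_pow_self p two_ne_zero) h1
    exact ⟨v, fun h => hne h.symm, hv ⟨T, Subgroup.mem_zpowers T⟩⟩
  obtain ⟨v0, rfl⟩ := QuotientGroup.mk_surjective v
  obtain ⟨r, u, hu, hrv, hru⟩ := exists_plane_torus hG hR hL1D hL1 hD hL1i hDi hW hexp
    (neg_ne_zero.2 one_ne_zero : (-1 : ZMod p) ≠ 0) v0
    (fun hm => hv ((QuotientGroup.eq_one_iff v0).2 hm)) τ hτ
    (by rw [← QuotientGroup.eq, ← hT, hvT]) ⟨u0, hu0⟩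
  refine ⟨r, fun x => ?_⟩
  have hmapr : D.map (r : MulAut R).toMonoidHom = D :=
    Subgroup.eq_of_le_of_card_ge (by rintro _ ⟨y, hy, rfl⟩; exact hDi _ r.2 y hy)
      (by rw [Subgroup.card_map_of_injective (MulEquiv.injective _)])
  let K : Subgroup R :=
    { carrier := {y | ((y * (r : MulAut R) y : R) : R ⧸ D) = 1}
      one_mem' := by simp
      mul_mem' := fun {a b} ha hb => by
        show ((a * b * (r : MulAut R) (a * b) : R) : R ⧸ D) = 1
        rw [map_mul, QuotientGroup.mk_mul, QuotientGroup.mk_mul, QuotientGroup.mk_mul,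
          hWc (((r : MulAut R) a : R) : R ⧸ D), mul_assoc, ← mul_assoc (b : R ⧸ D),
          ← QuotientGroup.mk_mul D b, show ((b * (r : MulAut R) b : R) : R ⧸ D) = 1 from hb, one_mul,
          ← QuotientGroup.mk_mul]
        exact ha
      inv_mem' := fun {a} ha => by
        show ((a⁻¹ * (r : MulAut R) a⁻¹ : R) : R ⧸ D) = 1
        rw [map_inv, QuotientGroup.mk_mul, QuotientGroup.mk_inv, QuotientGroup.mk_inv, ← mul_inv_rev,
          hWc, ← QuotientGroup.mk_mul, show ((a * (r : MulAut R) a : R) : R ⧸ D) = 1 from ha, inv_one] }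
  have hneg : ∀ q : R ⧸ D, q * q ^ (-1 : ZMod p).val = 1 := fun q => by
    haveI : Fact (1 < p) := ⟨hp.one_lt⟩
    nth_rewrite 1 [← pow_one q]
    rw [← ZMod.val_one (n := p), ← EssentialRankTwo.pow_val_add (hexp q), add_neg_cancel,
      ZMod.val_zero, pow_zero]
  have hvK : v0 ∈ K := by
    show ((v0 * (r : MulAut R) v0 : R) : R ⧸ D) = 1
    rw [QuotientGroup.mk_mul, ← QuotientGroup.eq.2 hrv, QuotientGroup.mk_pow, hneg]
  have huK : u ∈ K := by
    show ((u * (r : MulAut R) u : R) : R ⧸ D) = 1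
    rw [QuotientGroup.mk_mul, ← QuotientGroup.eq.2 hru, QuotientGroup.mk_pow, inv_neg_one, hneg]
  have htop := eq_top_of_mem hW hv (hexp _) hu (K := K.map (QuotientGroup.mk' D))
    ⟨v0, hvK, rfl⟩ ⟨u, huK, rfl⟩
  obtain ⟨y, hy, hyx⟩ : (x : R ⧸ D) ∈ K.map (QuotientGroup.mk' D) := htop ▸ Subgroup.mem_top _
  change (y : R ⧸ D) = (x : R ⧸ D) at hyx
  have hr : (((r : MulAut R) y : R) : R ⧸ D) = (((r : MulAut R) x : R) : R ⧸ D) := by
    rw [QuotientGroup.eq] at hyx ⊢
    rw [← map_inv, ← map_mul]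
    exact hDi _ r.2 _ hyx
  rw [← QuotientGroup.eq_one_iff, QuotientGroup.mk_mul, ← hyx, ← hr, ← QuotientGroup.mk_mul]
  exact hy

/-- What the induction gives for an essential subgroup. -/
structure Step (F : Cfsg.FusionSystem (⊤ : Subgroup G)) (p : ℕ) (K : Subgroup G) (R : Subgroup G)
    [K.Normal] : Prop where
  ess : F.IsEssential p R
  normalizer : ∀ α : F.autGroup R, (∀ β ∈ autS F R, α * β * α⁻¹ ∈ autS F R) → α ∈ kept K (F.autGroup R)
  comm : ∀ a b : G, ⁅a, b⁆ ∈ K

variable {K : Subgroup G} [K.Normal] {R : Subgroup G}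

omit [Fact p.Prime] in
theorem Step.autS_le (h : Step F p K R) : autS F R ≤ kept K (F.autGroup R) := by
  intro β hβ
  obtain ⟨g, hg⟩ := mem_autS.1 hβ
  refine mem_kept.2 fun x => ?_
  rw [hg, show (x : G)⁻¹ * (g * x * g⁻¹) = ⁅(x : G)⁻¹, g⁆ by rw [commutatorElement_def]; group]
  exact h.comm _ _

theorem Step.normalizer_le (hG : IsPGroup p G) (h : Step F p K R) (P : Sylow p (F.autGroup R))
    (hP : (P : Subgroup (F.autGroup R)) = autS F R) :
    Subgroup.normalizer ((P : Subgroup (F.autGroup R)) : Set (F.autGroup R)) ≤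
      kept K (F.autGroup R) := fun α hα => by
  refine h.normalizer α fun β hβ => ?_
  rw [← hP] at hβ ⊢
  exact (Subgroup.mem_normalizer_iff.1 hα β).1 hβ

/-- A plane section over a short piece kept by the conjugates. -/
theorem Step.kept_eq_top_of_plane (hG : IsPGroup p G) (hF : F.IsSaturated p) (h : Step F p K R)
    (hK : K.index = p) (hp2 : p ≠ 2) {L1 D : Subgroup R} [D.Normal] [L1.Normal] (hL1D : L1 ≤ D)
    (hL1 : Nat.card L1 ∣ p) (hD : L1.relIndex D ∣ p)
    (hL1i : ∀ a ∈ F.autGroup R, ∀ x ∈ L1, a x ∈ L1) (hDi : ∀ a ∈ F.autGroup R, ∀ x ∈ D, a x ∈ D)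
    (hW : Nat.card (R ⧸ D) = p ^ 2) (hexp : ∀ q : R ⧸ D, q ^ p = 1)
    (hL1K : ∀ x ∈ L1, (x : G) ∈ K) : kept K (F.autGroup R) = ⊤ := by
  haveI : Finite (MulAut R) := finite_mulAut R
  obtain ⟨r, hr⟩ := exists_plane_inverter hG hF h.ess hL1D hL1 hD hL1i hDi hW hexp
  have hinvD : ∀ a b : R, a⁻¹ * b ∈ D → ∀ γ ∈ F.autGroup R, (γ a)⁻¹ * γ b ∈ D := fun a b hab γ hγ => by
    rw [← map_inv, ← map_mul]
    exact hDi γ hγ _ hab
  -- commutators with `r` are inner to `S`
  have hκ : ∀ α : F.autGroup R, (∃ k, (α : MulAut R) ^ p ^ k = 1) → r * α * r⁻¹ * α⁻¹ ∈ autS F R := by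
    rintro α ⟨k, hk⟩
    have hk' : ((α : MulAut R)⁻¹) ^ p ^ k = 1 := by rw [inv_pow, hk, inv_one]
    have hlow : ∀ {L M : Subgroup R}, (∀ a ∈ F.autGroup R, ∀ x ∈ L, a x ∈ L) →
        (∀ a ∈ F.autGroup R, ∀ x ∈ M, a x ∈ M) → (∀ x ∈ M, x⁻¹ * (α : MulAut R) x ∈ L) →
        (∀ x ∈ M, x⁻¹ * (α : MulAut R)⁻¹ x ∈ L) → ∀ x ∈ M,
          x⁻¹ * ((r * α * r⁻¹ * α⁻¹ : F.autGroup R) : MulAut R) x ∈ L := by
      intro L M hLi hMi ha ha' x hx
      set l1 := x⁻¹ * (α : MulAut R)⁻¹ x with hl1
      have e1 : (α : MulAut R)⁻¹ x = x * l1 := by rw [hl1, mul_inv_cancel_left]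
      set y := (r : MulAut R)⁻¹ x
      set l2 := y⁻¹ * (α : MulAut R) y with hl2
      have e2 : (α : MulAut R) y = y * l2 := by rw [hl2, mul_inv_cancel_left]
      show x⁻¹ * (r : MulAut R) ((α : MulAut R) ((r : MulAut R)⁻¹ ((α : MulAut R)⁻¹ x))) ∈ L
      rw [e1, map_mul, map_mul, e2, map_mul, map_mul, show (r : MulAut R) y = x from MulAut.apply_inv_self _ _ _,
        mul_assoc, inv_mul_cancel_left]
      exact L.mul_mem (hLi _ r.2 _ (ha y (hMi _ (inv_mem r.2) x hx)))
        (hLi _ r.2 _ (hLi _ α.2 _ (hLi _ (inv_mem r.2) _ (ha' x hx))))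
    refine mem_autS_of_stabilizes hG hF h.ess.2.1 3
      (fun i => if i = 0 then ⊥ else if i = 1 then L1 else if i = 2 then D else ⊤) rfl rfl
      (monotone_nat_of_le_succ fun i => ?_) (fun i a ha x hx => ?_) fun i hi x hx => ?_
    · rcases i with _ | _ | _ | i
      exacts [bot_le, hL1D, le_top, le_rfl]
    · rcases i with _ | _ | _ | i
      · rw [show x = 1 from Subgroup.mem_bot.1 hx, map_one]; exact one_mem _
      exacts [hL1i a ha x hx, hDi a ha x hx, Subgroup.mem_top _]
    · interval_cases i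
      · refine hlow (L := ⊥) (M := L1)
          (fun a _ y hy => by rw [show y = 1 from Subgroup.mem_bot.1 hy, map_one]; exact one_mem _)
          hL1i (fun y hy => ?_) (fun y hy => ?_) x hx <;>
        refine inv_mul_mem_of_relIndex (k := k) (M := L1) ?_ inferInstance
          (by simpa [Subgroup.relIndex_bot_left] using hL1) ?_ ?_ y hy
        exacts [hk, hL1i _ α.2,
          fun z hz => by rw [show z = 1 from Subgroup.mem_bot.1 hz, map_one]; exact one_mem _,
          hk', hL1i _ (inv_mem α.2),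
          fun z hz => by rw [show z = 1 from Subgroup.mem_bot.1 hz, map_one]; exact one_mem _]
      · exact hlow (L := L1) (M := D) hL1i hDi
          (inv_mul_mem_of_relIndex hk inferInstance hD (hDi _ α.2) (hL1i _ α.2))
          (inv_mul_mem_of_relIndex hk' inferInstance hD (hDi _ (inv_mem α.2)) (hL1i _ (inv_mem α.2)))
          x hx
      · show x⁻¹ * (r : MulAut R) ((α : MulAut R) ((r : MulAut R)⁻¹ ((α : MulAut R)⁻¹ x))) ∈ D
        set z := (α : MulAut R)⁻¹ x with hz
        set y := (r : MulAut R)⁻¹ z with hy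
        have h1 : y * z ∈ D := by
          have := hr y
          rwa [show (r : MulAut R) y = z from MulAut.apply_inv_self _ _ _] at this
        have h2 : (α : MulAut R) y * x ∈ D := by
          have := hDi _ α.2 _ h1
          rwa [map_mul, show (α : MulAut R) z = x from MulAut.apply_inv_self _ _ _] at this
        have h3 := hr ((α : MulAut R) y)
        have h4 := D.mul_mem (D.inv_mem h2) h3
        rwa [mul_inv_rev, mul_assoc, inv_mul_cancel_left] at h4
  obtain ⟨P, hP⟩ := exists_sylow hG hF h.ess.2.1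
  have hrN : r ∈ kept K (F.autGroup R) := h.normalizer r fun β hβ => by
    have := Subgroup.mul_mem _ (hκ β (exists_pow_eq_one hG hβ)) hβ
    rwa [inv_mul_cancel_right] at this
  refine eq_top_of_conj P _ (h.normalizer_le hG P hP) fun c β hβ => ?_
  rw [hP] at hβ
  set α := c * β * c⁻¹ with hα
  obtain ⟨k, hk⟩ := exists_pow_eq_one hG hβ
  have hαk : (α : MulAut R) ^ p ^ k = 1 := by
    show ((c : MulAut R) * (β : MulAut R) * (c : MulAut R)⁻¹) ^ p ^ k = 1
    rw [conj_pow, hk, mul_one, mul_inv_cancel]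
  have hκα := h.autS_le (hκ α ⟨k, hαk⟩)
  refine mem_kept.2 fun x => mem_of_sq_mem hK hp2 ?_
  have hcomm : ∀ a b : G ⧸ K, a * b = b * a := fun a b => by
    haveI : IsCyclic (G ⧸ K) := isCyclic_of_prime_card ((Subgroup.index_eq_card K).symm.trans hK)
    exact IsCyclic.commGroup.mul_comm a b
  rw [← QuotientGroup.eq_one_iff, QuotientGroup.mk_mul, QuotientGroup.mk_mul, QuotientGroup.mk_inv]
  set a : G ⧸ K := ((x : G) : G ⧸ K)
  set b : G ⧸ K := ((((α : MulAut R) x : R) : G) : G ⧸ K)
  -- `z = x (r x)`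
  set z := x * (r : MulAut R) x with hz
  have hza : (((z : R) : G) : G ⧸ K) = a * a := by
    rw [hz, Subgroup.coe_mul, QuotientGroup.mk_mul, show ((((r : MulAut R) x : R) : G) : G ⧸ K) = a from hrN x]
  have hzα : ((((α : MulAut R) z : R) : G) : G ⧸ K) = (((z : R) : G) : G ⧸ K) := by
    rw [eq_comm, QuotientGroup.eq]
    exact hL1K _ (inv_mul_mem_of_relIndex hαk inferInstance hD (hDi _ α.2) (hL1i _ α.2) z (hr x))
  have hzb : ((((α : MulAut R) z : R) : G) : G ⧸ K) = b * b := by
    rw [hz, map_mul, Subgroup.coe_mul, QuotientGroup.mk_mul]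
    congr 1
    have h1 := hκα ((α : MulAut R) ((r : MulAut R) x))
    have e : ((r * α * r⁻¹ * α⁻¹ : F.autGroup R) : MulAut R) ((α : MulAut R) ((r : MulAut R) x)) =
        (r : MulAut R) ((α : MulAut R) x) := by
      show (r : MulAut R) ((α : MulAut R) ((r : MulAut R)⁻¹ ((α : MulAut R)⁻¹
        ((α : MulAut R) ((r : MulAut R) x))))) = _
      rw [MulAut.inv_apply_self, MulAut.inv_apply_self]
    rw [e] at h1
    exact h1.symm.trans (hrN _)
  have key : a * a = b * b := by rw [← hza, ← hzα, hzb]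
  rw [mul_assoc, ← mul_assoc b, hcomm b, mul_assoc, ← key, ← mul_assoc a⁻¹, ← mul_inv_rev,
    inv_mul_cancel]

/-- An elementary abelian essential subgroup of order `p ^ 3`. -/
theorem Step.kept_eq_top_of_cube (hyp : Hyp p G) (hF : F.IsSaturated p) (h : Step F p K R)
    (hK : K.index = p) (hp2 : p ≠ 2) (hc : EssCube F p R) : kept K (F.autGroup R) = ⊤ := by
  haveI : Finite (MulAut R) := finite_mulAut R
  have hp : p.Prime := Fact.out
  haveI : Fact (1 < p) := ⟨hp.one_lt⟩
  have hG := hyp.isPGroup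
  obtain ⟨P, hP⟩ := exists_sylow hG hF h.ess.2.1
  obtain ⟨⟨τ, hτ⟩, hτ1⟩ : ∃ τ : autS F R, τ ≠ 1 := by
    by_contra hall
    push Not at hall
    refine not_normal_sylow h.ess P ⟨fun x hx g => ?_⟩
    rw [hP] at hx ⊢
    rw [show x = 1 from congrArg Subtype.val (hall ⟨x, hx⟩), mul_one, mul_inv_cancel]
    exact one_mem _
  have hτ1' : τ ≠ 1 := fun hh => hτ1 (Subtype.ext hh)
  have hz : Subgroup.zpowers τ = autS F R := by
    refine Subgroup.eq_of_le_of_card_ge (Subgroup.zpowers_le.2 hτ) ((hc.card_autS_le hyp).trans ?_)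
    obtain ⟨j, hj⟩ := IsPGroup.iff_card.1
      ((isPGroup_autS hG).to_le (Subgroup.zpowers_le.2 hτ) : IsPGroup p (Subgroup.zpowers τ))
    rw [hj]
    refine Nat.le_self_pow (fun h0 => hτ1' ?_) p
    rw [h0, pow_zero, Subgroup.card_eq_one, Subgroup.zpowers_eq_bot] at hj
    exact hj
  have hτp : orderOf τ = p := by
    have h1 : orderOf τ ≤ p := by rw [← Nat.card_zpowers, hz]; exact hc.card_autS_le hyp
    obtain ⟨j, hj⟩ := IsPGroup.iff_card.1 ((isPGroup_autS hG).to_le hz.le)
    rw [Nat.card_zpowers] at hj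
    rw [hj] at h1 ⊢
    nth_rewrite 2 [← pow_one p] at h1
    rw [Nat.pow_le_pow_iff_right hp.one_lt] at h1
    rcases Nat.eq_zero_or_pos j with rfl | hj0
    · exact absurd (orderOf_eq_one_iff.1 (hj.trans (pow_zero p))) hτ1'
    · rw [show j = 1 by omega, pow_one]
  set M := Subgroup.normalizer ((P : Subgroup (F.autGroup R)) : Set (F.autGroup R))
  have hTI : TIData p R (F.autGroup R) M := by
    refine ⟨fun htop => not_normal_sylow h.ess P (Subgroup.normalizer_eq_top_iff.1 htop),
      fun {x g} hx hxp hg => ?_⟩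
    have hin : ∀ y ∈ M, orderOf y = p → y ∈ (P : Subgroup (F.autGroup R)) := by
      intro y hy hyp'
      have hzy : IsPGroup p (Subgroup.zpowers y) :=
        IsPGroup.of_card (n := 1) (by rw [Nat.card_zpowers, hyp', pow_one])
      have hsup := hzy.to_sup_of_normal_right' P.isPGroup' (Subgroup.zpowers_le.2 hy)
      exact (P.is_maximal' hsup le_sup_right).le (Subgroup.mem_sup_left (Subgroup.mem_zpowers y))
    have hxP := hin x hx hxp
    have hgP := hin _ hg ((MulEquiv.orderOf_eq (MulAut.conj g) x).trans hxp)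
    have hzx : Subgroup.zpowers x = (P : Subgroup (F.autGroup R)) :=
      Subgroup.eq_of_le_of_card_ge (Subgroup.zpowers_le.2 hxP) (by
        rw [Nat.card_zpowers, hxp, hP]; exact hc.card_autS_le hyp)
    have hmap : ((P : Subgroup (F.autGroup R))).map (MulAut.conj g).toMonoidHom =
        (P : Subgroup (F.autGroup R)) := by
      refine Subgroup.eq_of_le_of_card_ge ?_ (by rw [Subgroup.card_map_of_injective (MulEquiv.injective _)])
      rw [← hzx, MonoidHom.map_zpowers]
      exact Subgroup.zpowers_le.2 (hzx.ge hgP)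
    refine Subgroup.mem_normalizer_iff.2 fun y => ⟨fun hy => hmap.le ⟨y, hy, rfl⟩, fun hy => ?_⟩
    obtain ⟨y', hy', hyy⟩ := hmap.ge hy
    rwa [(MulAut.conj g).injective hyy] at hy'
  have h2 := hc.transvection hyp hτ
  have hτM : τ ∈ M := Subgroup.le_normalizer (hP.ge hτ)
  have hkey : ∀ c : F.autGroup R, c * τ * c⁻¹ ∈ kept K (F.autGroup R) := by
    intro c
    by_cases hcM : c ∈ M
    · refine h.autS_le ?_
      rw [← hP]
      exact (Subgroup.mem_normalizer_iff.1 hcM τ).1 (hP.ge hτ)
    obtain ⟨e, w, e1, he, hte, -, -, hte1, him, hke, htorus⟩ :=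
      exists_torus_at hc.comm hc.exp hc.card hTI hτM hτp h2 hcM
    obtain ⟨δ, -, -, hδe1, hδτ⟩ := htorus (-1) (neg_ne_zero.2 one_ne_zero)
    have hδ : δ ∈ kept K (F.autGroup R) := by
      refine h.normalizer δ fun β hβ => ?_
      obtain ⟨i, hi⟩ := hz.ge hβ
      rw [← show τ ^ i = β from hi, ← conj_zpow, hδτ]
      exact Subgroup.zpow_mem _ (Subgroup.pow_mem _ hτ _) i
    have he1K : (e1 : G) ∈ K := by
      refine mem_of_sq_mem hK hp2 ?_
      have h1 := mem_kept.1 hδ e1
      have h3 : ((δ : MulAut R) e1 : R) * e1 = 1 := by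
        rw [hδe1, inv_neg_one]
        nth_rewrite 2 [← pow_one e1]
        rw [← ZMod.val_one (n := p), ← EssentialRankTwo.pow_val_add (hc.exp e1), neg_add_cancel,
          ZMod.val_zero, pow_zero]
      rw [eq_inv_of_mul_eq_one_left h3, Subgroup.coe_inv] at h1
      rw [← inv_inv ((e1 : G) * e1), mul_inv_rev]
      exact K.inv_mem h1
    have hceK : ((c : MulAut R) e : G) ∈ K := by
      obtain ⟨i, hi⟩ := hke
      rw [← show e1 ^ i = (c : MulAut R) e from hi, Subgroup.coe_zpow]
      exact K.zpow_mem he1K i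
    refine mem_kept.2 fun x => ?_
    obtain ⟨i, hi⟩ := him ((c : MulAut R)⁻¹ x)
    have hmove : x⁻¹ * ((c * τ * c⁻¹ : F.autGroup R) : MulAut R) x = (c : MulAut R) e ^ i := by
      rw [← map_zpow, show e ^ i = disp (τ : MulAut R) ((c : MulAut R)⁻¹ x) from hi, disp, map_mul,
        map_inv, MulAut.apply_inv_self]
      rfl
    have hm := congrArg (fun y : R => (y : G)) hmove
    simp only [Subgroup.coe_mul, Subgroup.coe_inv, Subgroup.coe_zpow] at hm
    rw [show ((c : F.autGroup R) : MulAut R) * (τ : MulAut R) * ((c : F.autGroup R) : MulAut R)⁻¹ =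
      ((c * τ * c⁻¹ : F.autGroup R) : MulAut R) from rfl] at hm
    rw [hm]
    exact K.zpow_mem hceK i
  refine eq_top_of_conj P _ (h.normalizer_le hG P hP) fun c β hβ => ?_
  rw [hP] at hβ
  obtain ⟨i, hi⟩ := hz.ge hβ
  rw [← show τ ^ i = β from hi, ← conj_zpow]
  exact Subgroup.zpow_mem _ (hkey c) i

/-- A maximal subgroup over the derived subgroup kept by all automorphisms contains the focal subgroup. -/
theorem focal_le (hyp : Hyp p G) (hF : F.IsSaturated p) (hp2 : p ≠ 2)
    (hZ : Nat.card (Subgroup.center G) = p) (K : Subgroup G) [K.Normal] (hK : K.index = p)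
    (hcomm : ∀ a b : G, ⁅a, b⁆ ∈ K)
    (htop : ∀ α ∈ F.autGroup (⊤ : Subgroup G), ∀ x : (⊤ : Subgroup G),
      (x : G)⁻¹ * ((α x : (⊤ : Subgroup G)) : G) ∈ K) :
    F.focalSubgroup ≤ K := by
  have hp : p.Prime := Fact.out
  have hG := hyp.isPGroup
  have hTS : IsPGroup p (⊤ : Subgroup G) := hG.to_subgroup ⊤
  have hZK : Subgroup.center G ≤ K := by
    haveI : Finite (Subgroup.center G) := inferInstance
    have hne : commutator G ≠ ⊥ := fun hb => hyp.not_commutative fun a b =>
      commutatorElement_eq_one_iff_commute.1 (Subgroup.mem_bot.1 (hb ▸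
        (commutator_def G).symm ▸ Subgroup.commutator_mem_commutator (Subgroup.mem_top a) (Subgroup.mem_top b)))
    have hi := PGroup.inf_center_ne_bot hG (commutator G) hne
    rcases (Nat.dvd_prime hp).1 (hZ ▸ Subgroup.card_dvd_of_le
      (inf_le_right : commutator G ⊓ Subgroup.center G ≤ _)) with h1 | h1
    · exact absurd (Subgroup.card_eq_one.1 h1) hi
    · rw [← Subgroup.eq_of_le_of_card_ge (inf_le_right : commutator G ⊓ Subgroup.center G ≤ _)
        (by rw [h1, hZ])]
      refine inf_le_left.trans ?_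
      rw [commutator_def, Subgroup.commutator_le]
      exact fun a _ b _ => hcomm a b
  rw [Cfsg.FusionSystem.focalSubgroup, Subgroup.closure_le]
  rintro _ ⟨P, φ, x, hφ, rfl⟩
  revert x
  refine hom_induction_card hTS hF (C := fun P φ => ∀ x : P, (x : G)⁻¹ * φ x ∈ K) ?_ ?_ ?_ ?_ hφ
  · intro R hR hbig α hα x
    rcases hR.top_or_essential with rfl | hess
    · exact htop α hα x
    have hRne : R ≠ ⊤ := by
      rintro rfl
      exact (EssentialOmit.exists_TI hTS hF hess).elim fun _ h => h.2.2.2 rfl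
    have hstep : Step F p K R := by
      refine ⟨hess, fun a ha => mem_kept.2 fun y => ?_, hcomm⟩
      obtain ⟨ψ, hψ⟩ := exists_extend hG hF hR.fullyNormalized a ha
      obtain ⟨g, hg, hgR⟩ := exists_normalizing_not_mem hTS le_top hRne
      have hlt : Nat.card R < Nat.card (Subgroup.normalizer (R : Set G)) :=
        card_lt_of_le_of_mem (S := (⊤ : Subgroup G)) le_top Subgroup.le_normalizer hg.2 hgR
      have h1 := hbig ((mem_autGroup_iff F le_top).1 ψ.2) hlt ⟨y, Subgroup.le_normalizer y.2⟩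
      rw [← hψ y]
      exact h1
    have hall : kept K (F.autGroup R) = ⊤ := by
      obtain ⟨i, hi5, hi⟩ := (Nat.dvd_prime_pow hp).1 (hyp.card ▸ R.card_subgroup_dvd_card)
      have hZR := center_le_of_centric hess.1
      have hi1 : 2 ≤ i := by
        by_contra hlt
        have hle : R ≤ Subgroup.center G := (Subgroup.eq_of_le_of_card_ge hZR (by
          rw [hi, hZ]
          exact (Nat.pow_le_pow_right hp.pos (by omega : i ≤ 1)).trans (pow_one p).le)).ge
        refine hRne (top_le_iff.1 ((fun g _ => hess.1.2 R (isConj_refl F le_top) ?_) :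
          (⊤ : Subgroup G) ≤ R))
        rw [centralizerIn_top, Subgroup.mem_centralizer_iff]
        exact fun y hy => (Subgroup.mem_center_iff.1 (hle hy) g).symm
      have hi4 : i ≤ 4 := by
        by_contra hlt
        refine hRne (Subgroup.eq_top_of_card_eq R ?_)
        rw [hi, hyp.card, show i = 5 by omega]
      rcases (show i = 2 ∨ i = 3 ∨ i = 4 by omega) with rfl | rfl | rfl
      · haveI : Subsingleton (⊥ : Subgroup R) := inferInstance
        refine hstep.kept_eq_top_of_plane hG hF hK hp2 (L1 := ⊥) (D := ⊥) le_rfl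
          (by rw [Subgroup.card_bot]; exact one_dvd p) (by rw [Subgroup.relIndex_self]; exact one_dvd p)
          ?_ ?_ ?_ (fun q => ?_) fun y hy => ?_
        · intro a _ y hy; rw [show y = 1 from Subgroup.mem_bot.1 hy, map_one]; exact one_mem _
        · intro a _ y hy; rw [show y = 1 from Subgroup.mem_bot.1 hy, map_one]; exact one_mem _
        · rw [← Subgroup.index_eq_card, Subgroup.index_bot, hi]
        · obtain ⟨y, rfl⟩ := QuotientGroup.mk_surjective q
          rw [← QuotientGroup.mk_pow, EssentialRankTwo.pow_eq_one_of_card_sq hTS hess hi y]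
          rfl
        · rw [show y = 1 from Subgroup.mem_bot.1 hy]
          exact one_mem _
      · rcases EssentialCube.classify hTS hess hi with ⟨hc, he⟩ | ⟨-, hes, he⟩ | ⟨h2, -⟩
        · exact hstep.kept_eq_top_of_cube hyp hF hK hp2 ⟨hess, hi, hc, he⟩
        · have hle : (Subgroup.center G).subgroupOf R ≤ Subgroup.center R := fun z hz =>
            Subgroup.mem_center_iff.2 fun a =>
              Subtype.ext (Subgroup.mem_center_iff.1 (Subgroup.mem_subgroupOf.1 hz) (a : G))
          have heq := Subgroup.eq_of_le_of_card_ge hle (by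
            rw [hes.2, Nat.card_congr (Subgroup.subgroupOfEquivOfLe hZR).toEquiv, hZ])
          have hchar : ∀ a ∈ F.autGroup R, ∀ y ∈ Subgroup.center R, a y ∈ Subgroup.center R := by
            intro a _ y hy
            rw [← Subgroup.characteristic_iff_map_eq.1 (inferInstance : (Subgroup.center R).Characteristic) a]
            exact ⟨y, hy, rfl⟩
          refine hstep.kept_eq_top_of_plane hG hF hK hp2 (L1 := Subgroup.center R) (D := Subgroup.center R)
            le_rfl (by rw [hes.2]) (by rw [Subgroup.relIndex_self]; exact one_dvd p) hchar hchar ?_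
            (fun q => ?_) fun y hy => ?_
          · have h1 := (Subgroup.center R).card_eq_card_quotient_mul_card_subgroup
            rw [hi, hes.2, show p ^ 3 = p ^ 2 * p from pow_succ p 2] at h1
            exact (Nat.eq_of_mul_eq_mul_right hp.pos h1).symm
          · obtain ⟨y, rfl⟩ := QuotientGroup.mk_surjective q
            rw [← QuotientGroup.mk_pow, he y]
            rfl
          · exact hZK (Subgroup.mem_subgroupOf.1 (heq.ge hy))
        · exact absurd h2 hp2
      · have hnc : ¬ ∀ a b : R, Commute a b := fun hall' => by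
          obtain ⟨a, ha, b, hb, hab⟩ := hyp.not_abelian R hi
          exact hab (congrArg Subtype.val (hall' ⟨a, ha⟩ ⟨b, hb⟩).eq)
        rcases card_center_four hi hnc with hc | hc
        · exfalso
          obtain ⟨L, hL0, -, hL4, hmono, hchar, hcard, -, -⟩ := exists_series_four hi hc
          refine EssentialSmall.false_of_series hTS hess 4 L hL0 hL4 hmono hchar fun j hj => ?_
          rw [EssentialRankTwo.relIndex_eq_of_card (hmono j.le_succ) (m := p) (by
            rw [hcard _ hj, hcard _ hj.le, pow_succ'])]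
        · have hq := card_quot_center hi hc
          obtain ⟨t, -, htp, ht⟩ := exists_comm_generator hq
          set L1 := commutator R with hL1
          have hL1t : L1 ≤ Subgroup.zpowers t := by
            rw [hL1, commutator_def, Subgroup.commutator_le]
            exact fun a _ b _ => ht a b
          have hL1d : Nat.card L1 ∣ p := (Subgroup.card_dvd_of_le hL1t).trans
            (by rw [Nat.card_zpowers]; exact orderOf_dvd_of_pow_eq_one htp)
          have hL1D : L1 ≤ Subgroup.center R := by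
            rw [hL1, commutator_def, Subgroup.commutator_le]
            exact fun a _ b _ => comm_mem_center_of_quot hq a b
          have hL1ne : Nat.card L1 = p := ((Nat.dvd_prime hp).1 hL1d).resolve_left fun h1 => hnc fun a b =>
            commutatorElement_eq_one_iff_commute.1 (Subgroup.mem_bot.1 ((Subgroup.card_eq_one.1 h1).le (by
              rw [hL1, commutator_def]
              exact Subgroup.commutator_mem_commutator (Subgroup.mem_top a) (Subgroup.mem_top b))))
          have hdz : L1.relIndex (Subgroup.center R) ∣ p := by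
            rw [EssentialRankTwo.relIndex_eq_of_card hL1D (m := p) (by rw [hc, hL1ne, sq])]
          have hchar : ∀ {L : Subgroup R}, L.Characteristic → ∀ a ∈ F.autGroup R, ∀ y ∈ L, a y ∈ L := by
            intro L hL a _ y hy
            rw [← Subgroup.characteristic_iff_map_eq.1 hL a]
            exact ⟨y, hy, rfl⟩
          refine hstep.kept_eq_top_of_plane hG hF hK hp2 hL1D hL1d hdz (hchar inferInstance)
            (hchar inferInstance) hq (quot_center_exp hq) fun y hy => ?_
          have hle : L1.map R.subtype ≤ K := by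
            rw [hL1, Subgroup.map_subtype_commutator, Subgroup.commutator_le]
            exact fun a _ b _ => hcomm a b
          exact hle ⟨y, hy, rfl⟩
    exact mem_kept.1 (hall.ge (Subgroup.mem_top (⟨α, hα⟩ : F.autGroup R))) x
  · intro P Q hPQ ψ _ h x
    exact h (Subgroup.inclusion hPQ x)
  · intro P Q φ ψ _ _ h h1 h2 x
    have := K.mul_mem (h1 x) (h2 ⟨φ x, h x⟩)
    rwa [mul_assoc, mul_inv_cancel_left] at this
  · intro P Q φ ψ _ _ hr hinv h y
    obtain ⟨x, hx⟩ : (y : G) ∈ φ.range := hr.symm ▸ y.2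
    have e : ψ y = (x : G) := (congrArg ψ (Subtype.ext hx.symm : y = ⟨φ x, hx ▸ y.2⟩)).trans (hinv x _)
    rw [e, ← hx]
    have := K.inv_mem (h x)
    rwa [mul_inv_rev, inv_inv] at this

end CfsgLib.Fus.OrderFive
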