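import Cfsg.Agent.Fus.EssentialElemCube.Normalizer
import Cfsg.Agent.Fus.EssentialElemCube.GroupCases
import Cfsg.Agent.PGroup.Small
import Cfsg.Agent.S5270

/-!
Groups of order `p ^ 5` without abelian subgroups of index `p`: centres, maximal subgroups, lines of
a plane.
-/

set_option autoImplicit false

open scoped commutatorElement

namespace CfsgLib.Fus.OrderFive

open CfsgLib.Fus.EssentialElemCube

variable {G : Type*} [Group G] {p : ℕ}

/-- Order `p ^ 5` and no abelian subgroup of index `p`. -/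
structure Hyp (p : ℕ) (G : Type*) [Group G] : Prop where
  card : Nat.card G = p ^ 5
  not_abelian : ∀ A : Subgroup G, Nat.card A = p ^ 4 → ∃ x ∈ A, ∃ y ∈ A, ¬ Commute x y

variable [Fact p.Prime]

theorem card_of_index {n : ℕ} (hG : Nat.card G = p ^ (n + 1)) {M : Subgroup G} (hM : M.index = p) :
    Nat.card M = p ^ n := by
  have h := M.card_mul_index
  rw [hG, hM, pow_succ] at h
  exact Nat.eq_of_mul_eq_mul_right (Fact.out : p.Prime).pos h

theorem index_of_card {n : ℕ} (hG : Nat.card G = p ^ (n + 1)) {M : Subgroup G}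
    (hM : Nat.card M = p ^ n) : M.index = p := by
  have h := M.card_mul_index
  rw [hG, hM, pow_succ] at h
  exact Nat.eq_of_mul_eq_mul_left (pow_pos (Fact.out : p.Prime).pos n) h

theorem commute_sup_center {x a b : G} (ha : a ∈ Subgroup.zpowers x ⊔ Subgroup.center G)
    (hb : b ∈ Subgroup.zpowers x ⊔ Subgroup.center G) : Commute a b := by
  rw [Subgroup.mem_sup_of_normal_right] at ha hb
  obtain ⟨_, ⟨i, rfl⟩, z, hz, rfl⟩ := ha
  obtain ⟨_, ⟨j, rfl⟩, w, hw, rfl⟩ := hb
  have hz' : ∀ g, Commute z g := fun g => (Subgroup.mem_center_iff.1 hz g).symm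
  have hw' : ∀ g, Commute w g := fun g => (Subgroup.mem_center_iff.1 hw g).symm
  exact (((Commute.refl x).zpow_zpow i j).mul_right (hw' _).symm).mul_left (hz' _)

variable [Finite G]

theorem Hyp.isPGroup (h : Hyp p G) : IsPGroup p G := IsPGroup.of_card h.card

theorem Hyp.not_commutative (h : Hyp p G) : ¬ ∀ a b : G, Commute a b := by
  intro hall
  obtain ⟨A, hA⟩ := Sylow.exists_subgroup_card_pow_prime p (n := 4)
    (h.card ▸ pow_dvd_pow p (by norm_num) : p ^ 4 ∣ Nat.card G)
  obtain ⟨x, -, y, -, hxy⟩ := h.not_abelian A hA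
  exact hxy (hall x y)

/-- The centre has order `p` or `p ^ 2`. -/
theorem Hyp.card_center (h : Hyp p G) :
    Nat.card (Subgroup.center G) = p ∨ Nat.card (Subgroup.center G) = p ^ 2 := by
  have hp : p.Prime := Fact.out
  obtain ⟨i, hi0, hi⟩ := IsPGroup.card_center_eq_prime_pow h.card (by norm_num : 0 < 5)
  rcases (show i = 1 ∨ i = 2 ∨ 3 ≤ i by omega) with rfl | rfl | h3
  · exact Or.inl (hi.trans (pow_one p))
  · exact Or.inr hi
  exfalso
  obtain ⟨x, hx⟩ : ∃ x, x ∉ Subgroup.center G := by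
    by_contra hall
    push Not at hall
    exact h.not_commutative fun a b => (Subgroup.mem_center_iff.1 (hall a) b).symm
  set H := Subgroup.zpowers x ⊔ Subgroup.center G
  have hlt : Nat.card (Subgroup.center G) < Nat.card H :=
    lt_of_le_of_ne (Subgroup.card_le_of_le le_sup_right) fun he => hx
      ((Subgroup.eq_of_le_of_card_ge le_sup_right he.ge).ge
        (Subgroup.mem_sup_left (Subgroup.mem_zpowers x)))
  obtain ⟨j, hj⟩ := IsPGroup.iff_card.1 (h.isPGroup.to_subgroup H)
  rw [hi, hj, Nat.pow_lt_pow_iff_right hp.one_lt] at hlt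
  rcases (show j = 4 ∨ 5 ≤ j by omega) with rfl | h5
  · obtain ⟨a, ha, b, hb, hab⟩ := h.not_abelian H hj
    exact hab (commute_sup_center ha hb)
  · have htop : H = ⊤ := Subgroup.eq_top_of_le_card H (by
      rw [h.card, hj]; exact Nat.pow_le_pow_right hp.pos h5)
    exact h.not_commutative fun a b =>
      commute_sup_center (htop ▸ Subgroup.mem_top a : a ∈ H) (htop ▸ Subgroup.mem_top b : b ∈ H)

section four

/-! ### Groups of order `p ^ 4` -/

/-- The centre of a nonabelian group of order `p ^ 4` has order `p` or `p ^ 2`. -/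
theorem card_center_four (hG : Nat.card G = p ^ 4) (hnc : ¬ ∀ a b : G, Commute a b) :
    Nat.card (Subgroup.center G) = p ∨ Nat.card (Subgroup.center G) = p ^ 2 := by
  have hp : p.Prime := Fact.out
  obtain ⟨i, hi0, hi⟩ := IsPGroup.card_center_eq_prime_pow hG (by norm_num : 0 < 4)
  rcases (show i = 1 ∨ i = 2 ∨ 3 ≤ i by omega) with rfl | rfl | h3
  · exact Or.inl (hi.trans (pow_one p))
  · exact Or.inr hi
  exfalso
  have hq : Nat.card (G ⧸ Subgroup.center G) ∣ p := by
    have h := (Subgroup.center G).card_eq_card_quotient_mul_card_subgroup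
    rw [hG, hi] at h
    refine Nat.dvd_of_mul_dvd_mul_right (pow_pos hp.pos i) ?_
    rw [← h, ← pow_succ']
    exact pow_dvd_pow p (by omega)
  haveI : IsCyclic (G ⧸ Subgroup.center G) := by
    rcases (Nat.dvd_prime hp).1 hq with h1 | h1
    · haveI := (Nat.card_eq_one_iff_unique.1 h1).1
      exact isCyclic_of_subsingleton
    · exact isCyclic_of_prime_card h1
  refine hnc fun a b => ?_
  exact commutative_of_cyclic_center_quotient (QuotientGroup.mk' (Subgroup.center G))
    (by rw [QuotientGroup.ker_mk']) a b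

omit [Finite G] in
theorem card_quot_center (hG : Nat.card G = p ^ 4) (hZ : Nat.card (Subgroup.center G) = p ^ 2) :
    Nat.card (G ⧸ Subgroup.center G) = p ^ 2 := by
  have h := (Subgroup.center G).card_eq_card_quotient_mul_card_subgroup
  rw [hG, hZ, show p ^ 4 = p ^ 2 * p ^ 2 by rw [← pow_add]] at h
  exact (Nat.eq_of_mul_eq_mul_right (pow_pos (Fact.out : p.Prime).pos 2) h).symm

theorem quot_center_exp (hq : Nat.card (G ⧸ Subgroup.center G) = p ^ 2)
    (q : G ⧸ Subgroup.center G) : q ^ p = 1 := by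
  have hp : p.Prime := Fact.out
  obtain ⟨i, hi, hio⟩ := (Nat.dvd_prime_pow hp).1 (hq ▸ orderOf_dvd_natCard q)
  rcases (show i ≤ 1 ∨ i = 2 by omega) with h1 | rfl
  · rw [← orderOf_dvd_iff_pow_eq_one, hio]
    exact (pow_dvd_pow p h1).trans (pow_one p).dvd
  exfalso
  haveI : IsCyclic (G ⧸ Subgroup.center G) := isCyclic_of_orderOf_eq_card q (hio.trans hq.symm)
  have hall : ∀ a b : G, a * b = b * a := fun a b =>
    commutative_of_cyclic_center_quotient (QuotientGroup.mk' (Subgroup.center G))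
      (by rw [QuotientGroup.ker_mk']) a b
  have htop : Subgroup.center G = ⊤ :=
    (Subgroup.eq_top_iff' _).2 fun a => Subgroup.mem_center_iff.2 fun b => hall b a
  have h1 : Nat.card (G ⧸ Subgroup.center G) = 1 := by
    rw [← Subgroup.index_eq_card, htop, Subgroup.index_top]
  rw [hq] at h1
  exact (Nat.one_lt_pow two_ne_zero hp.one_lt).ne' h1

omit [Finite G] in
theorem comm_mem_center_of_quot (hq : Nat.card (G ⧸ Subgroup.center G) = p ^ 2) (a b : G) :
    ⁅a, b⁆ ∈ Subgroup.center G := by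
  rw [← QuotientGroup.eq_one_iff]
  show QuotientGroup.mk' _ ⁅a, b⁆ = 1
  rw [map_commutatorElement, commutatorElement_eq_one_iff_mul_comm]
  exact (IsPGroup.isMulCommutative_of_card_eq_prime_sq hq).is_comm.comm _ _

/-- With centre of index `p ^ 2` the commutators form a group of order at most `p`. -/
theorem exists_comm_generator (hq : Nat.card (G ⧸ Subgroup.center G) = p ^ 2) :
    ∃ t ∈ Subgroup.center G, t ^ p = 1 ∧ ∀ x y : G, ⁅x, y⁆ ∈ Subgroup.zpowers t := by
  have hp : p.Prime := Fact.out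
  have hC := comm_mem_center_of_quot hq
  obtain ⟨a, ha⟩ : ∃ a, a ∉ Subgroup.center G := by
    by_contra hall
    push Not at hall
    have htop : Subgroup.center G = ⊤ := (Subgroup.eq_top_iff' _).2 hall
    rw [← Subgroup.index_eq_card, htop, Subgroup.index_top] at hq
    exact (Nat.one_lt_pow two_ne_zero hp.one_lt).ne hq
  obtain ⟨b, hb⟩ : ∃ b, ¬ Commute b a := by
    by_contra hall
    push Not at hall
    exact ha (Subgroup.mem_center_iff.2 fun b => (hall b).eq)
  set qa : G ⧸ Subgroup.center G := (a : G ⧸ Subgroup.center G)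
  have hqa : qa ≠ 1 := fun h => ha ((QuotientGroup.eq_one_iff a).1 h)
  have hqb : (b : G ⧸ Subgroup.center G) ∉ Subgroup.zpowers qa := by
    rintro ⟨i, hi⟩
    refine hb ?_
    change (a : G ⧸ Subgroup.center G) ^ i = (b : G ⧸ Subgroup.center G) at hi
    rw [← QuotientGroup.mk_zpow, QuotientGroup.eq] at hi
    have hz : Commute ((a ^ i)⁻¹ * b) a := (Subgroup.mem_center_iff.1 hi a).symm
    have := ((Commute.refl a).zpow_left i).mul_left hz
    rwa [mul_inv_cancel_left] at this
  refine ⟨⁅a, b⁆, hC a b, ?_, ?_⟩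
  · rw [← PGroup.commutatorElement_pow_left' hC, commutatorElement_eq_one_iff_commute]
    have hap : a ^ p ∈ Subgroup.center G := by
      rw [← QuotientGroup.eq_one_iff, QuotientGroup.mk_pow]
      exact quot_center_exp hq _
    exact (Subgroup.mem_center_iff.1 hap b).symm
  set T := Subgroup.zpowers ⁅a, b⁆
  let K : G → Subgroup G := fun y =>
    { carrier := {g | ⁅g, y⁆ ∈ T}
      one_mem' := by
        show ⁅(1 : G), y⁆ ∈ T
        rw [commutatorElement_one_left]; exact one_mem _
      mul_mem' := fun {g g'} hg hg' => by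
        show ⁅g * g', y⁆ ∈ T
        rw [PGroup.commutatorElement_mul_left' hC]
        exact T.mul_mem hg hg'
      inv_mem' := fun {g} hg => by
        show ⁅g⁻¹, y⁆ ∈ T
        rw [CfsgLib.PGroup.MaxClass.comm_inv_left_of_central fun z =>
          PGroup.commute_commutatorElement hC g y z]
        exact T.inv_mem hg }
  have hfull : ∀ y, a ∈ K y → b ∈ K y → ∀ g, g ∈ K y := by
    intro y hay hby g
    have htop := eq_top_of_mem hq hqa (quot_center_exp hq qa) hqb
      (K := (K y).map (QuotientGroup.mk' (Subgroup.center G))) ⟨a, hay, rfl⟩ ⟨b, hby, rfl⟩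
    obtain ⟨g', hg', hgg⟩ : (g : G ⧸ Subgroup.center G) ∈
        (K y).map (QuotientGroup.mk' (Subgroup.center G)) := htop ▸ Subgroup.mem_top _
    rw [QuotientGroup.mk'_apply, QuotientGroup.eq] at hgg
    have hcK : g'⁻¹ * g ∈ K y := by
      show ⁅g'⁻¹ * g, y⁆ ∈ T
      rw [commutatorElement_eq_one_iff_mul_comm.2 (Subgroup.mem_center_iff.1 hgg y).symm]
      exact one_mem _
    have := (K y).mul_mem hg' hcK
    rwa [mul_inv_cancel_left] at this
  have hab : ⁅b, a⁆ ∈ T := by
    rw [← commutatorElement_inv]; exact T.inv_mem (Subgroup.mem_zpowers _)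
  have hKa : ∀ g, g ∈ K a := hfull a
    (show ⁅a, a⁆ ∈ T by rw [commutatorElement_self]; exact one_mem _) hab
  have hKb : ∀ g, g ∈ K b := hfull b (Subgroup.mem_zpowers _)
    (show ⁅b, b⁆ ∈ T by rw [commutatorElement_self]; exact one_mem _)
  intro x y
  refine hfull y ?_ ?_ x <;> show ⁅_, y⁆ ∈ T <;> rw [← commutatorElement_inv]
  · exact T.inv_mem (hKa y)
  · exact T.inv_mem (hKb y)

/-- A group of order `p ^ 4` with centre of order `p` is not of class two. -/
theorem false_of_class_two (hG : Nat.card G = p ^ 4) (hZ : Nat.card (Subgroup.center G) = p)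
    (hC : ∀ a b : G, ⁅a, b⁆ ∈ Subgroup.center G) : False := by
  have hp : p.Prime := Fact.out
  have hP : IsPGroup p G := IsPGroup.of_card hG
  obtain ⟨x, hx⟩ : ∃ x, x ∉ Subgroup.center G := by
    by_contra hall
    push Not at hall
    have := (Subgroup.eq_top_iff' _).2 hall
    rw [this, Subgroup.card_top, hG] at hZ
    nth_rewrite 2 [← pow_one p] at hZ
    have := Nat.pow_right_injective hp.two_le hZ
    omega
  obtain ⟨y, hy⟩ : ∃ y, ¬ Commute y x := by
    by_contra hall
    push Not at hall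
    exact hx (Subgroup.mem_center_iff.2 fun y => (hall y).eq)
  have hidx : ∀ v : G, ¬ (∀ g, Commute g v) →
      (Subgroup.centralizer ({v} : Set G)).index = p := by
    intro v hv
    rw [← PGroup.commHom_ker hC, Subgroup.index_ker]
    have hd : Nat.card (PGroup.commHom hC v).range ∣ p :=
      hZ ▸ Subgroup.card_subgroup_dvd_card (PGroup.commHom hC v).range
    rcases (Nat.dvd_prime hp).1 hd with h1 | h1
    · exfalso
      refine hv fun g => commutatorElement_eq_one_iff_commute.1 ?_
      have hm : PGroup.commHom hC v g ∈ (PGroup.commHom hC v).range := ⟨g, rfl⟩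
      rw [Subgroup.card_eq_one.1 h1, Subgroup.mem_bot] at hm
      exact congrArg Subtype.val hm
    · exact h1
  set Cx := Subgroup.centralizer ({x} : Set G)
  set Cy := Subgroup.centralizer ({y} : Set G)
  have hCx : Cx.index = p := hidx x fun hall => hy (hall y)
  have hCy : Cy.index = p := hidx y fun hall => hy (hall x).symm
  have hinf : (Cx ⊓ Cy).index ≤ p * p := by
    refine le_trans Subgroup.index_inf_le ?_
    rw [hCx, hCy]
  obtain ⟨i, hi⟩ := IsPGroup.iff_card.1 (hP.to_subgroup (Cx ⊓ Cy))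
  have hi2 : 2 ≤ i := by
    by_contra hlt
    have h1 := (Cx ⊓ Cy).card_mul_index
    rw [hG, hi] at h1
    have h2 : p ^ i * (Cx ⊓ Cy).index ≤ p ^ 1 * (p * p) :=
      Nat.mul_le_mul (Nat.pow_le_pow_right hp.pos (by omega)) hinf
    rw [h1, show p ^ 1 * (p * p) = p ^ 3 by ring, Nat.pow_le_pow_iff_right hp.one_lt] at h2
    omega
  obtain ⟨u, hu, huZ⟩ : ∃ u ∈ Cx ⊓ Cy, u ∉ Subgroup.center G := by
    by_contra hall
    push Not at hall
    have h1 := Subgroup.card_le_of_le (hall : Cx ⊓ Cy ≤ Subgroup.center G)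
    rw [hi, hZ] at h1
    nth_rewrite 2 [← pow_one p] at h1
    rw [Nat.pow_le_pow_iff_right hp.one_lt] at h1
    omega
  have hux : Commute u x := Subgroup.mem_centralizer_singleton_iff.1 hu.1
  have huy : Commute u y := Subgroup.mem_centralizer_singleton_iff.1 hu.2
  obtain ⟨w, hw⟩ : ∃ w, ¬ Commute w u := by
    by_contra hall
    push Not at hall
    exact huZ (Subgroup.mem_center_iff.2 fun w => (hall w).eq)
  -- `Cx` is generated by `Cx ⊓ Cy` and `x`
  set Cu := Subgroup.centralizer ({u} : Set G)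
  have hCu : Cu.index = p := hidx u fun hall => hw (hall w)
  have hxy : x ∉ Cy := fun hc => hy (Subgroup.mem_centralizer_singleton_iff.1 hc).symm
  have hk : Nat.card Cx = p ^ 3 := card_of_index hG hCx
  have hi3 : i = 2 := by
    have hlt : Nat.card (Cx ⊓ Cy : Subgroup G) < Nat.card Cx :=
      lt_of_le_of_ne (Subgroup.card_le_of_le inf_le_left) fun he => hxy
        ((Subgroup.eq_of_le_of_card_ge inf_le_left he.ge).ge
          (Subgroup.mem_centralizer_singleton_iff.2 rfl)).2
    rw [hi, hk, Nat.pow_lt_pow_iff_right hp.one_lt] at hlt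
    omega
  subst hi3
  have hUcomm : ∀ a ∈ Cx ⊓ Cy, ∀ b ∈ Cx ⊓ Cy, Commute a b := fun a ha b hb =>
    congrArg Subtype.val ((IsPGroup.isMulCommutative_of_card_eq_prime_sq hi).is_comm.comm
      (⟨a, ha⟩ : (Cx ⊓ Cy : Subgroup G)) ⟨b, hb⟩)
  have hUle : Cx ⊓ Cy ≤ Cu := fun a ha =>
    Subgroup.mem_centralizer_singleton_iff.2 (hUcomm a ha u hu).eq
  have hCxu : Cx ≤ Cu := by
    have hgen := eq_of_le_of_lt hk
      (sup_le inf_le_left (Subgroup.zpowers_le.2 (Subgroup.mem_centralizer_singleton_iff.2 rfl)) :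
        (Cx ⊓ Cy) ⊔ Subgroup.zpowers x ≤ Cx) hi le_sup_left
      (Subgroup.mem_sup_right (Subgroup.mem_zpowers x)) fun hm => hxy hm.2
    rw [← hgen]
    exact sup_le hUle (Subgroup.zpowers_le.2 (Subgroup.mem_centralizer_singleton_iff.2 hux.eq.symm))
  have heq : Cx = Cu := Subgroup.eq_of_le_of_card_ge hCxu (by rw [hk, card_of_index hG hCu])
  have hyx : y ∈ Cx := heq ▸ Subgroup.mem_centralizer_singleton_iff.2 huy.eq.symm
  exact hy (Subgroup.mem_centralizer_singleton_iff.1 hyx)

/-- A nonabelian group of order `p ^ 4` with centre of order `p` has a characteristic series with steps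
of order `p`. -/
theorem exists_series_four (hG : Nat.card G = p ^ 4) (hZ : Nat.card (Subgroup.center G) = p) :
    ∃ L : ℕ → Subgroup G, L 0 = ⊥ ∧ L 1 = Subgroup.center G ∧ L 4 = ⊤ ∧ Monotone L ∧
      (∀ i, (L i).Characteristic) ∧ (∀ i, i ≤ 4 → Nat.card (L i) = p ^ i) ∧
      (∀ x ∈ L 2, ∀ y ∈ L 3, Commute x y) ∧ (∀ x : G, (∀ y ∈ L 2, Commute x y) → x ∈ L 3) := by
  classical
  have hp : p.Prime := Fact.out
  have hP : IsPGroup p G := IsPGroup.of_card hG
  have hl : Subgroup.lowerCentralSeries (⊤ : Subgroup G) (4 - 2) ≠ ⊥ := by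
    intro hb
    -- class two is impossible
    have hC : ∀ a b : G, ⁅a, b⁆ ∈ Subgroup.center G := by
      intro a b
      refine Subgroup.mem_center_iff.2 fun g => ?_
      have h1 : ⁅⁅a, b⁆, g⁆ ∈ Subgroup.lowerCentralSeries (⊤ : Subgroup G) 2 := by
        rw [Subgroup.lowerCentralSeries_succ]
        refine Subgroup.commutator_mem_commutator ?_ (Subgroup.mem_top g)
        rw [Subgroup.lowerCentralSeries_succ]
        refine Subgroup.commutator_mem_commutator ?_ (Subgroup.mem_top b)
        rw [Subgroup.lowerCentralSeries_zero]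
        exact Subgroup.mem_top a
      rw [show (4 : ℕ) - 2 = 2 from rfl] at hb
      rw [hb, Subgroup.mem_bot] at h1
      exact (commutatorElement_eq_one_iff_mul_comm.1 h1).symm
    exact false_of_class_two hG hZ hC
  obtain ⟨-, hZ2, hZ2C, hCidx⟩ := Cfsg.Agent.S5270.maxClass_facts hG le_rfl hl
  set Z2 := Subgroup.upperCentralSeries G 2
  set C := Subgroup.centralizer (Z2 : Set G)
  haveI : Z2.Characteristic := inferInstance
  have hCc : C.Characteristic := inferInstance
  have hZZ2 : Subgroup.center G ≤ Z2 := by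
    rw [← Subgroup.upperCentralSeries_one G]
    exact Subgroup.upperCentralSeries_mono G (by norm_num)
  refine ⟨fun i => if i = 0 then ⊥ else if i = 1 then Subgroup.center G else
    if i = 2 then Z2 else if i = 3 then C else ⊤, rfl, rfl, rfl,
    monotone_nat_of_le_succ fun i => ?_, fun i => ?_, fun i hi => ?_, fun x hx y hy => ?_,
    fun x hx => ?_⟩
  · rcases i with _ | _ | _ | _ | i
    · exact bot_le
    · exact hZZ2
    · exact hZ2C
    · exact le_top
    · exact le_rfl
  · rcases i with _ | _ | _ | _ | i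
    · exact Subgroup.botCharacteristic
    · exact Subgroup.centerCharacteristic
    · exact inferInstanceAs Z2.Characteristic
    · exact hCc
    · exact Subgroup.topCharacteristic
  · interval_cases i
    · exact Subgroup.card_bot.trans (pow_zero p).symm
    · exact hZ.trans (pow_one p).symm
    · exact hZ2
    · exact card_of_index hG hCidx
    · exact Subgroup.card_top.trans hG
  · exact (Subgroup.mem_centralizer_iff.1 (hy : y ∈ C) x hx)
  · exact Subgroup.mem_centralizer_iff.2 fun y hy => (hx y hy).eq.symm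

end four

/-! ### Lines of a plane -/

/-- A transvection reaches every line but its centre. -/
theorem exists_conj_line {W : Type*} [Group W] [Finite W] (hW : Nat.card W = p ^ 2)
    (hexp : ∀ w : W, w ^ p = 1) {a : MulAut W} {f q1 : W} (hf : f ≠ 1) (haf : a f = f)
    (haq : a q1 = q1 * f) (hq1 : q1 ∉ Subgroup.zpowers f) {q : W}
    (hq : q ∉ Subgroup.zpowers f) : ∃ j : ℕ, q ∈ Subgroup.zpowers ((a ^ j) q1) := by
  have hp : p.Prime := Fact.out
  have hc : ∀ x y : W, x * y = y * x :=
    (IsPGroup.isMulCommutative_of_card_eq_prime_sq hW).is_comm.comm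
  have hne : q1 ≠ 1 := fun h => hq1 (h ▸ one_mem _)
  have htop := eq_top_of_mem hW hf (hexp f) hq1
    (K := Subgroup.zpowers q1 ⊔ Subgroup.zpowers f)
    (Subgroup.mem_sup_right (Subgroup.mem_zpowers f)) (Subgroup.mem_sup_left (Subgroup.mem_zpowers q1))
  haveI : (Subgroup.zpowers f).Normal := ⟨fun x hx g => by rwa [hc g x, mul_inv_cancel_right]⟩
  obtain ⟨u, hu, v, hv, huv⟩ := Subgroup.mem_sup_of_normal_right.1
    (htop ▸ Subgroup.mem_top q : q ∈ Subgroup.zpowers q1 ⊔ Subgroup.zpowers f)
  obtain ⟨c, hcu⟩ := exists_zmod_pow (orderOf_eq_prime (hexp q1) hne) hu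
  obtain ⟨d, hdv⟩ := exists_zmod_pow (orderOf_eq_prime (hexp f) hf) hv
  have hc0 : c ≠ 0 := fun h0 => hq (by
    rw [← huv, hcu, h0, ZMod.val_zero, pow_zero, one_mul]; exact hv)
  refine ⟨(d / c).val, ?_⟩
  have hd : disp a q1 = f := by rw [disp, haq, inv_mul_cancel_left]
  rw [pow_apply_of_fixed (by rw [hd, haf]), hd]
  refine ⟨(c.val : ℤ), ?_⟩
  show (q1 * f ^ (d / c).val) ^ (c.val : ℤ) = q
  rw [zpow_natCast, (show Commute q1 _ from hc _ _).mul_pow,
    ← EssentialRankTwo.pow_val_mul (hexp f), div_mul_cancel₀ d hc0, ← hcu, ← hdv, huv]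

/-- Odd index: square roots stay. -/
theorem mem_of_sq_mem {K : Subgroup G} [K.Normal] (hK : K.index = p) (hp2 : p ≠ 2) {g : G}
    (h : g * g ∈ K) : g ∈ K := by
  have hp : p.Prime := Fact.out
  rw [← QuotientGroup.eq_one_iff] at h ⊢
  have h2 : ((g : G ⧸ K)) ^ 2 = 1 := by rw [sq, ← QuotientGroup.mk_mul]; exact h
  have hp' : ((g : G ⧸ K)) ^ p = 1 := by
    rw [← hK, Subgroup.index_eq_card]; exact pow_card_eq_one'
  have := (pow_gcd_eq_one (a := (g : G ⧸ K))).2 ⟨h2, hp'⟩
  rwa [(Nat.coprime_primes Nat.prime_two hp).2 (Ne.symm hp2), pow_one] at this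

/-- The conjugates of a Sylow subgroup and its normaliser generate. -/
theorem eq_top_of_conj {A : Type*} [Group A] [Finite A] (P : Sylow p A) (H : Subgroup A)
    (hN : Subgroup.normalizer ((P : Subgroup A) : Set A) ≤ H)
    (hc : ∀ k : A, ∀ β ∈ (P : Subgroup A), k * β * k⁻¹ ∈ H) : H = ⊤ := by
  set L := Subgroup.normalClosure ((P : Subgroup A) : Set A)
  have hPL : (P : Subgroup A) ≤ L := Subgroup.subset_normalClosure
  have hLH : L ≤ H := by
    refine (Subgroup.closure_le H).2 fun x hx => ?_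
    obtain ⟨β, hβ, hconj⟩ := Group.mem_conjugatesOfSet_iff.1 hx
    obtain ⟨k, rfl⟩ := isConj_iff.1 hconj
    exact hc k β hβ
  have h := Sylow.normalizer_sup_eq_top (P.subtype hPL)
  rw [Sylow.coe_subtype, Subgroup.map_subgroupOf_eq_of_le hPL] at h
  exact top_unique (h ▸ sup_le hN hLH)

end CfsgLib.Fus.OrderFive
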